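import Cfsg.Prelude.Def_Solvable
import Cfsg.Prelude.Def_IsolatedElements
import Cfsg.Agent.Lib.Involutions.Fusion
import Cfsg.Agent.Lib.Involutions.BrauerSuzuki
import Cfsg.Agent.Lib.H82.Hamiltonian
import Cfsg.Agent.Lib.PCore.Basic
import Cfsg.Agent.Lib.PF.OddOrder
import Cfsg.Agent.Lib.Structure.SolvableRadical
import Cfsg.Agent.Lib.Characters.Burnside
import Mathlib

/-!
# Groups in which the non-trivial subgroups of an even cyclic subgroup have the same normaliser

Elementary consequences: the centraliser of an involution `z` is the normaliser of every cyclic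
group containing `z`, and of every cyclic subgroup of odd order centralised by `z`.
-/

set_option autoImplicit false
set_option linter.style.haveILetI false

namespace CfsgLib.EvenCyclicNorm

open Subgroup CfsgLib.Involutions

universe u

variable {G : Type u} [Group G]

/-- The hypotheses. -/
structure Hyp (G : Type u) [Group G] : Prop where
  solv : ∀ N : Subgroup G, N.Normal → Group.IsSolvable ↥N → N = ⊥
  norm : ∀ X : Subgroup G, IsCyclic ↥X → Even (Nat.card ↥X) → ∀ Y : Subgroup G, Y ≤ X → Y ≠ ⊥ →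
    normalizer (X : Set G) = normalizer (Y : Set G)

theorem mem_cent {z x : G} : x ∈ centralizer ({z} : Set G) ↔ Commute x z :=
  mem_centralizer_singleton_iff

theorem mem_cent_conj {g z x : G} :
    x ∈ centralizer ({g * z * g⁻¹} : Set G) ↔ g⁻¹ * x * g ∈ centralizer ({z} : Set G) := by
  rw [mem_cent, mem_cent]
  constructor
  · intro e
    calc g⁻¹ * x * g * z = g⁻¹ * (x * (g * z * g⁻¹)) * g := by group
      _ = g⁻¹ * (g * z * g⁻¹ * x) * g := by rw [e.eq]
      _ = z * (g⁻¹ * x * g) := by group
  · intro e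
    calc x * (g * z * g⁻¹) = g * (g⁻¹ * x * g * z) * g⁻¹ := by group
      _ = g * (z * (g⁻¹ * x * g)) * g⁻¹ := by rw [e.eq]
      _ = g * z * g⁻¹ * x := by group

theorem normalizer_zpowers_involution {z : G} (hz : orderOf z = 2) :
    normalizer (zpowers z : Set G) = centralizer ({z} : Set G) := by
  have hmem : ∀ x : G, x ∈ zpowers z → x = 1 ∨ x = z := by
    rintro x ⟨k, rfl⟩
    rcases Int.even_or_odd k with ⟨j, rfl⟩ | ⟨j, rfl⟩
    · left
      simp only []
      rw [← two_mul, zpow_mul, zpow_two, mul_self_eq_one hz, one_zpow]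
    · right
      simp only []
      rw [zpow_add, zpow_mul, zpow_two, mul_self_eq_one hz, one_zpow, one_mul, zpow_one]
  ext g
  rw [mem_normalizer_iff, mem_cent]
  constructor
  · intro h
    rcases hmem _ ((h z).1 (mem_zpowers z)) with e | e
    · exact absurd (conj_eq_one_iff.1 e) (ne_one_of_involution hz)
    · exact mul_inv_eq_iff_eq_mul.1 e
  · intro h x
    constructor
    · intro hx
      rcases hmem x hx with rfl | rfl
      · simp [one_mem]
      · rw [h.eq, mul_inv_cancel_right]; exact hx
    · intro hx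
      rcases hmem _ hx with e | e
      · rw [conj_eq_one_iff.1 e]; exact one_mem _
      · have : x = z := mul_left_cancel (mul_right_cancel (b := g⁻¹)
          (e.trans (by rw [h.eq, mul_inv_cancel_right]) : g * x * g⁻¹ = g * z * g⁻¹))
        rw [this]; exact mem_zpowers z

/-- The odd-order elements of the centraliser of `z`. -/
def oddCent (z : G) : Subgroup G :=
  closure {x | x ∈ centralizer ({z} : Set G) ∧ Odd (orderOf x)}

theorem oddCent_congr {z u : G}
    (e : centralizer ({z} : Set G) = centralizer ({u} : Set G)) : oddCent z = oddCent u := by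
  rw [oddCent, oddCent, e]

theorem oddCent_le (z : G) : oddCent z ≤ centralizer ({z} : Set G) :=
  (closure_le _).2 fun _ hx => hx.1

theorem eq_one_of_odd_sq {a : G} (ha : Odd (orderOf a)) (h2 : a * a = 1) : a = 1 :=
  orderOf_eq_one_iff.1 (Nat.eq_one_of_dvd_coprimes (Nat.coprime_two_left.2 ha)
    (orderOf_dvd_of_pow_eq_one (by rw [sq]; exact h2)) dvd_rfl)

theorem eq_one_of_odd_of_two_pow {a : G} (ha : Odd (orderOf a)) {k : ℕ} (hk : orderOf a ∣ 2 ^ k) :
    a = 1 :=
  orderOf_eq_one_iff.1 (Nat.eq_one_of_dvd_coprimes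
    ((Nat.coprime_two_left.2 ha).pow_left k) hk dvd_rfl)

namespace Hyp

/-- The normaliser of every non-trivial subgroup of a cyclic group containing the involution `z`
is the centraliser of `z`. -/
theorem normalizer_sub (h : Hyp G) [Finite G] {z x : G} (hz : orderOf z = 2)
    (hzx : z ∈ zpowers x) {Y : Subgroup G} (hY : Y ≤ zpowers x) (hY1 : Y ≠ ⊥) :
    normalizer (Y : Set G) = centralizer ({z} : Set G) := by
  have heven : Even (Nat.card (zpowers x)) :=
    even_iff_two_dvd.2 (hz ▸ orderOf_dvd_natCard _ hzx)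
  rw [← h.norm _ inferInstance heven Y hY hY1,
    h.norm _ inferInstance heven (zpowers z) (zpowers_le.2 hzx)
      (zpowers_ne_bot.2 (ne_one_of_involution hz)), normalizer_zpowers_involution hz]

theorem normalizer_zpowers (h : Hyp G) [Finite G] {z x : G} (hz : orderOf z = 2)
    (hzx : z ∈ zpowers x) :
    normalizer (zpowers x : Set G) = centralizer ({z} : Set G) :=
  h.normalizer_sub hz hzx le_rfl (zpowers_ne_bot.2 fun e => ne_one_of_involution hz
    (by rw [e, zpowers_one_eq_bot, mem_bot] at hzx; exact hzx))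

theorem conj_mem_zpowers (h : Hyp G) [Finite G] {z x c : G} (hz : orderOf z = 2)
    (hzx : z ∈ zpowers x) (hc : c ∈ centralizer ({z} : Set G)) :
    c * x * c⁻¹ ∈ zpowers x := by
  rw [← h.normalizer_zpowers hz hzx] at hc
  exact (mem_normalizer_iff.1 hc x).1 (mem_zpowers x)

theorem commute_of_root {z x : G} (hzx : z ∈ zpowers x) : x ∈ centralizer ({z} : Set G) := by
  obtain ⟨k, rfl⟩ := hzx
  exact mem_cent.2 ((Commute.refl x).zpow_right k)

/-- An element of odd order commuting with an involution. -/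
theorem odd_normalizer (h : Hyp G) [Finite G] {z y : G} (hz : orderOf z = 2)
    (hy : Odd (orderOf y)) (hy1 : y ≠ 1) (hc : y ∈ centralizer ({z} : Set G)) :
    normalizer (zpowers y : Set G) = centralizer ({z} : Set G) := by
  have hyz : Commute y z := mem_cent.1 hc
  obtain ⟨m, hm⟩ := hy
  have h1 : (y * z) ^ orderOf y = z := by
    rw [hyz.mul_pow, pow_orderOf_eq_one, one_mul, hm, pow_add, pow_mul, sq, mul_self_eq_one hz,
      one_pow, one_mul, pow_one]
  have h2 : z ∈ zpowers (y * z) :=
    (congrArg (fun t => t ∈ zpowers (y * z)) h1).mp (npow_mem_zpowers _ _)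
  refine h.normalizer_sub hz h2 (zpowers_le.2 ?_) (zpowers_ne_bot.2 hy1)
  have h3 : (y * z) * z ∈ zpowers (y * z) := mul_mem (mem_zpowers _) h2
  rwa [mul_assoc y z z, mul_self_eq_one hz, mul_one] at h3

theorem cent_le_of_odd (h : Hyp G) [Finite G] {z y : G} (hz : orderOf z = 2)
    (hy : Odd (orderOf y)) (hy1 : y ≠ 1) (hc : y ∈ centralizer ({z} : Set G)) :
    centralizer ({y} : Set G) ≤ centralizer ({z} : Set G) := by
  rw [← h.odd_normalizer hz hy hy1 hc]
  refine le_trans (le_of_eq ?_) (centralizer_le_normalizer _)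
  ext g
  rw [mem_cent, mem_centralizer_iff]
  exact ⟨fun e w ⟨k, hk⟩ => hk ▸ ((e.symm).zpow_left k).eq,
    fun e => (e y (mem_zpowers y)).symm⟩

/-- Involutions centralising a common non-trivial element of odd order have equal centralisers. -/
theorem cent_eq_of_odd (h : Hyp G) [Finite G] {z v y : G} (hz : orderOf z = 2)
    (hv : orderOf v = 2) (hy : Odd (orderOf y)) (hy1 : y ≠ 1)
    (hyz : y ∈ centralizer ({z} : Set G)) (hyv : y ∈ centralizer ({v} : Set G)) :
    centralizer ({v} : Set G) = centralizer ({z} : Set G) :=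
  (h.odd_normalizer hv hy hy1 hyv).symm.trans (h.odd_normalizer hz hy hy1 hyz)

theorem conj_mem_zpowers_odd (h : Hyp G) [Finite G] {z y c : G} (hz : orderOf z = 2)
    (hy : Odd (orderOf y)) (hyz : y ∈ centralizer ({z} : Set G))
    (hc : c ∈ centralizer ({z} : Set G)) : c * y * c⁻¹ ∈ zpowers y := by
  by_cases hy1 : y = 1
  · subst hy1; simp [one_mem]
  rw [← h.odd_normalizer hz hy hy1 hyz] at hc
  exact (mem_normalizer_iff.1 hc y).1 (mem_zpowers y)

theorem mem_oddCent (h : Hyp G) [Finite G] {z x : G} (hz : orderOf z = 2) :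
    x ∈ oddCent z ↔ x ∈ centralizer ({z} : Set G) ∧ Odd (orderOf x) := by
  refine ⟨fun hx => ?_, fun hx => subset_closure hx⟩
  refine closure_induction (fun _ hy => hy) ⟨one_mem _, by simp⟩ ?_ ?_ hx
  · rintro a b - - ⟨ha, hao⟩ ⟨hb, hbo⟩
    refine ⟨mul_mem ha hb, ?_⟩
    have key : ∀ n : ℕ, (a * b) ^ n * (b ^ n)⁻¹ ∈ zpowers a := by
      intro n
      induction n with
      | zero => simp [one_mem]
      | succ n ih =>
        rw [show (a * b) ^ (n + 1) * (b ^ (n + 1))⁻¹ =
          a * (b * ((a * b) ^ n * (b ^ n)⁻¹) * b⁻¹) by rw [pow_succ', pow_succ']; group]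
        refine mul_mem (mem_zpowers a) ?_
        obtain ⟨k, hk⟩ := ih
        rw [← hk, ← conj_zpow]
        exact zpow_mem (h.conj_mem_zpowers_odd hz hao ha hb) k
    have h1 := key (orderOf b)
    rw [pow_orderOf_eq_one, inv_one, mul_one] at h1
    have h2 : (a * b) ^ (orderOf b * orderOf a) = 1 := by
      rw [pow_mul]
      exact orderOf_dvd_iff_pow_eq_one.1 ((orderOf_dvd_natCard _ h1).trans
        (Nat.card_zpowers a).dvd)
    exact (hbo.mul hao).of_dvd_nat (orderOf_dvd_of_pow_eq_one h2)
  · rintro a - ⟨ha, hao⟩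
    exact ⟨inv_mem ha, by rwa [orderOf_inv]⟩

theorem conj_mem_oddCent (h : Hyp G) [Finite G] {z a c : G} (hz : orderOf z = 2)
    (ha : a ∈ oddCent z) (hc : c ∈ centralizer ({z} : Set G)) : c * a * c⁻¹ ∈ oddCent z := by
  rw [h.mem_oddCent hz] at ha ⊢
  exact ⟨mul_mem (mul_mem hc ha.1) (inv_mem hc), by rw [orderOf_conj_eq]; exact ha.2⟩

theorem oddCent_comm (h : Hyp G) [Finite G] {z a b : G} (hz : orderOf z = 2)
    (ha : a ∈ oddCent z) (hb : b ∈ oddCent z) : Commute a b := by
  have hn : ∀ H : Subgroup (oddCent z), H.Normal := fun H => ⟨fun x hx c => by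
    have h0 := (h.mem_oddCent hz).1 x.2
    obtain ⟨k, hk⟩ := h.conj_mem_zpowers_odd hz h0.2 h0.1 (oddCent_le z c.2)
    have : c * x * c⁻¹ = x ^ k := Subtype.ext (by
      push_cast
      exact hk.symm)
    rw [this]
    exact zpow_mem hx k⟩
  have hodd : Odd (orderOf (⟨a, ha⟩ : oddCent z)) := by
    rw [orderOf_mk]; exact ((h.mem_oddCent hz).1 ha).2
  have := mem_center_iff.1 (Hamiltonian82.central_of_odd hn hodd) ⟨b, hb⟩
  exact (congrArg Subtype.val this).symm

/-- An involution of `C(z)` centralising a non-trivial element of `oddCent z`. -/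
theorem cent_eq_of_fix (h : Hyp G) [Finite G] {z v a : G} (hz : orderOf z = 2)
    (hv : orderOf v = 2) (ha : a ∈ oddCent z) (ha1 : a ≠ 1) (hva : Commute v a) :
    centralizer ({v} : Set G) = centralizer ({z} : Set G) :=
  h.cent_eq_of_odd hz hv ((h.mem_oddCent hz).1 ha).2 ha1 ((h.mem_oddCent hz).1 ha).1
    (mem_cent.2 hva.symm)

/-- An involution of `C(z)` centralises or inverts `oddCent z`. -/
theorem cent_or_inv (h : Hyp G) [Finite G] {z v : G} (hz : orderOf z = 2)
    (hv : orderOf v = 2) (hvz : v ∈ centralizer ({z} : Set G)) :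
    (∀ a ∈ oddCent z, Commute v a) ∨ ∀ a ∈ oddCent z, v * a * v⁻¹ = a⁻¹ := by
  by_cases hfix : ∃ a ∈ oddCent z, a ≠ 1 ∧ Commute v a
  · obtain ⟨a, ha, ha1, hva⟩ := hfix
    left
    intro b hb
    have hb' := oddCent_le z hb
    rw [← h.cent_eq_of_fix hz hv ha ha1 hva, mem_cent] at hb'
    exact hb'.symm
  · right
    intro a ha
    push Not at hfix
    have ha' := h.conj_mem_oddCent hz ha hvz
    have hb : a * (v * a * v⁻¹) ∈ oddCent z := mul_mem ha ha'
    have hcomm : Commute v (a * (v * a * v⁻¹)) := by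
      refine mul_inv_eq_iff_eq_mul.1 ?_
      calc v * (a * (v * a * v⁻¹)) * v⁻¹ = v * a * (v * a) * (v⁻¹ * v⁻¹) := by group
        _ = v * a * v⁻¹ * ((v * v) * a * (v * v)⁻¹) := by group
        _ = v * a * v⁻¹ * a := by rw [mul_self_eq_one hv, one_mul, inv_one, mul_one]
        _ = a * (v * a * v⁻¹) := (h.oddCent_comm hz ha' ha).eq
    have := not_imp_not.1 (fun hne => hfix _ hb hne) hcomm
    exact eq_inv_of_mul_eq_one_right this

/-- A conjugate of a two-group in a subgroup containing a Sylow 2-subgroup. -/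
theorem exists_conj_into [Finite G] (S : Sylow 2 G) {H : Subgroup G}
    (hS : (S : Subgroup G) ≤ H) {P : Subgroup G} (hP : IsPGroup 2 P) (hPH : P ≤ H) :
    ∃ c ∈ H, ∀ x ∈ P, c * x * c⁻¹ ∈ (S : Subgroup G) := by
  haveI : Fact (Nat.Prime 2) := ⟨Nat.prime_two⟩
  have hP' : IsPGroup 2 (P.subgroupOf H) :=
    hP.of_equiv (subgroupOfEquivOfLe hPH).symm
  obtain ⟨c, hc⟩ := Involutions.exists_conj_le_sylow hP' (S.subtype hS)
  refine ⟨c, c.2, fun x hx => ?_⟩
  exact hc ⟨x, hPH hx⟩ (mem_subgroupOf.2 hx)

/-- Inheritance by non-trivial normal subgroups. -/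
theorem of_normal (h : Hyp G) [Finite G] (N : Subgroup G) [N.Normal] : Hyp ↥N := by
  constructor
  · intro R hR hRs
    have hle := CfsgLib.Structure.le_solvableRadical hR hRs
    haveI : (Cfsg.solvableRadical ↥N).Characteristic :=
      CfsgLib.Structure.solvableRadical_characteristic
    have hbot : (Cfsg.solvableRadical ↥N).map N.subtype = ⊥ := by
      refine h.solv _ inferInstance ?_
      haveI : Group.IsSolvable (Cfsg.solvableRadical ↥N) :=
        CfsgLib.Structure.isSolvable_solvableRadical
      exact Group.isSolvable_of_surjective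
        (f := ((Cfsg.solvableRadical ↥N).equivMapOfInjective N.subtype
          N.subtype_injective).toMonoidHom) (MulEquiv.surjective _)
    exact le_bot_iff.1 (hle.trans ((map_eq_bot_iff_of_injective _ N.subtype_injective).1 hbot).le)
  · intro X hX hev Y hYX hY1
    have he := (X.equivMapOfInjective N.subtype N.subtype_injective)
    have h1 := h.norm (X.map N.subtype) (he.isCyclic.1 hX) (by rwa [← Nat.card_congr he.toEquiv])
      (Y.map N.subtype) (map_mono hYX) fun e =>
        hY1 ((map_eq_bot_iff_of_injective _ N.subtype_injective).1 e)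
    have hmem : ∀ (W : Subgroup ↥N) (g : ↥N), g ∈ normalizer (W : Set ↥N) ↔
        (g : G) ∈ normalizer ((W.map N.subtype) : Set G) := by
      intro W g
      rw [mem_normalizer_iff, mem_normalizer_iff]
      constructor
      · intro hg x
        constructor
        · rintro ⟨w, hw, rfl⟩
          exact ⟨g * w * g⁻¹, (hg w).1 hw, by simp⟩
        · rintro ⟨w, hw, hwe⟩
          refine ⟨g⁻¹ * w * g, ?_, ?_⟩
          · refine (hg _).2 ?_
            rwa [show g * (g⁻¹ * w * g) * g⁻¹ = w by group]
          · simp only [map_mul, map_inv]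
            rw [hwe]
            simp [mul_assoc]
      · intro hg w
        have hm : ∀ y : ↥N, y ∈ W ↔ (y : G) ∈ W.map N.subtype := fun y =>
          (mem_map_iff_mem N.subtype_injective).symm
        rw [hm, hm]
        simpa using hg w
    ext g
    rw [hmem, hmem, h1]

theorem center_eq_bot (h : Hyp G) : center G = ⊥ :=
  h.solv _ inferInstance
    (Group.isSolvable_of_comm fun a b => Subtype.ext (mem_center_iff.1 b.2 a.1))

theorem even_card (h : Hyp G) [Finite G] [Nontrivial G] : Even (Nat.card G) := by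
  by_contra hodd
  haveI : Group.IsSolvable G := CfsgLib.PF.oddSolvable G (Nat.not_even_iff_odd.1 hodd)
  exact top_ne_bot (h.solv ⊤ inferInstance inferInstance)

theorem exists_involution (h : Hyp G) [Finite G] [Nontrivial G] : ∃ z : G, orderOf z = 2 := by
  haveI : Fact (Nat.Prime 2) := ⟨Nat.prime_two⟩
  exact exists_prime_orderOf_dvd_card' 2 h.even_card.two_dvd

theorem pPrimeCore_eq_bot (h : Hyp G) [Finite G] : Cfsg.pPrimeCore 2 G = ⊥ := by
  refine h.solv _ ?_ ?_
  · infer_instance
  · exact CfsgLib.PF.oddSolvable _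
      (Nat.coprime_two_right.1 CfsgLib.PCore.pPrimeCore_coprime)

/-- No involution is the only one of its conjugates in a Sylow 2-subgroup. -/
theorem exists_fused (h : Hyp G) [Finite G] (S : Sylow 2 G) {z : G} (hz : orderOf z = 2) :
    ∃ g : G, g * z * g⁻¹ ∈ (S : Subgroup G) ∧ g * z * g⁻¹ ≠ z := by
  by_contra hne
  push Not at hne
  have hiso := Involutions.isIsolated_of_sylow S hz hne
  have hst := Involutions.zstar G z hiso
  have hcen : z ∈ center G := mem_center_iff.2 fun g => by
    have h1 := hst g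
    rw [h.pPrimeCore_eq_bot, mem_bot] at h1
    exact mul_inv_eq_iff_eq_mul.1 (mul_inv_eq_one.1 h1)
  rw [h.center_eq_bot, mem_bot] at hcen
  exact ne_one_of_involution hz hcen

/-- The order of the group is divisible by a prime greater than three. -/
theorem card_ne (h : Hyp G) [Finite G] [Nontrivial G] (a b : ℕ) :
    Nat.card G ≠ 2 ^ a * 3 ^ b := fun e => by
  haveI : Group.IsSolvable G :=
    Burnside.isSolvable_of_card_eq Nat.prime_two Nat.prime_three a b e
  exact top_ne_bot (h.solv ⊤ inferInstance inferInstance)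

end Hyp

end CfsgLib.EvenCyclicNorm
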