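import Cfsg.Agent.Lib.EvenCyclicNorm.Reduction
import Cfsg.Agent.Lib.BSW.Main
import Cfsg.Agent.Lib.BSW.Recog
import Cfsg.Agent.Lib.PSL2.Basic

/-!
# Generalised dihedral centralisers: one class gives `PSL(2, q)`, two classes a subgroup of index two
-/

set_option autoImplicit false
set_option linter.style.haveILetI false

namespace CfsgLib.EvenCyclicNorm

open Subgroup CfsgLib.Involutions

universe u

variable {G : Type u} [Group G]

/-- `x` is the square of an element of `K`. -/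
def IsSqIn (K : Subgroup G) (x : G) : Prop := ∃ k ∈ K, k * k = x

namespace DData

variable {K : Subgroup G} {z v : G}

theorem vv (d : DData K z v) : v * v = 1 := mul_self_eq_one d.hv

theorem mem_cent_iff (d : DData K z v) {g : G} :
    g ∈ centralizer ({z} : Set G) ↔ g ∈ K ∨ v * g ∈ K := by
  rw [d.cent]
  constructor
  · intro hg
    have hn : zpowers v ≤ normalizer (K : Set G) := by
      refine zpowers_le.2 (mem_normalizer_iff.2 fun x => ?_)
      refine ⟨fun hx => by rw [d.inv x hx]; exact K.inv_mem hx, fun hx => ?_⟩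
      have := d.inv _ hx
      rw [show v * (v * x * v⁻¹) * v⁻¹ = (v * v) * x * (v * v)⁻¹ by group, d.vv,
        one_mul, inv_one, mul_one] at this
      rw [this]; exact K.inv_mem hx
    rw [← SetLike.mem_coe, coe_mul_of_right_le_normalizer_left K (zpowers v) hn] at hg
    obtain ⟨a, ha, b, hb, rfl⟩ := hg
    obtain ⟨m, rfl⟩ := hb
    rcases Int.even_or_odd m with ⟨j, rfl⟩ | ⟨j, rfl⟩
    · left
      simp only []
      rw [← two_mul, zpow_mul, zpow_two, d.vv, one_zpow, mul_one]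
      exact ha
    · right
      simp only []
      rw [zpow_add, zpow_mul, zpow_two, d.vv, one_zpow, one_mul, zpow_one, ← mul_assoc]
      rw [show v * a * v = v * a * v⁻¹ by rw [inv_eq_self_of_involution d.hv], d.inv a ha]
      exact K.inv_mem ha
  · rintro (hg | hg)
    · exact mem_sup_left hg
    · rw [show g = v * (v * g) by rw [← mul_assoc, d.vv, one_mul]]
      exact mul_mem (mem_sup_right (mem_zpowers v)) (mem_sup_left hg)

theorem vK_involution (d : DData K z v) {k : G} (hk : k ∈ K) : orderOf (v * k) = 2 := by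
  refine Involutions.orderOf_eq_two_iff_mul.2 ⟨fun e => d.hvK ?_, ?_⟩
  · rw [eq_inv_of_mul_eq_one_left e]; exact inv_mem hk
  · calc v * k * (v * k) = v * k * v⁻¹ * (v * v) * k := by group
      _ = 1 := by rw [d.inv k hk, d.vv, mul_one, inv_mul_cancel]

theorem involution_cases (d : DData K z v) {x : G} (hx : orderOf x = 2)
    (hxC : x ∈ centralizer ({z} : Set G)) : x = z ∨ ∃ k ∈ K, x = v * k := by
  rcases d.mem_cent_iff.1 hxC with h | h
  · exact Or.inl ((d.uniq x h (mul_self_eq_one hx)).resolve_left (ne_one_of_involution hx))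
  · exact Or.inr ⟨_, h, by rw [← mul_assoc, d.vv, one_mul]⟩

theorem conj_v (d : DData K z v) {k m : G} (hk : k ∈ K) (hm : m ∈ K) :
    m⁻¹ * (v * k) * m⁻¹⁻¹ = v * (k * (m * m)) := by
  calc m⁻¹ * (v * k) * m⁻¹⁻¹ = (v * v) * m⁻¹ * v * k * m := by rw [d.vv]; group
    _ = v * (v * m⁻¹ * v⁻¹) * (v * v) * v⁻¹ * v * (k * m) := by group
    _ = v * (k * (m * m)) := by
        rw [d.inv _ (inv_mem hm), inv_inv, d.vv, mul_one, mul_assoc (v * m), inv_mul_cancel,
          mul_one, mul_assoc, ← mul_assoc m k m, d.comm m hm k hk, mul_assoc k]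

theorem sq_mul (d : DData K z v) {a b : G} (ha : IsSqIn K a) (hb : IsSqIn K b) :
    IsSqIn K (a * b) := by
  obtain ⟨x, hx, rfl⟩ := ha
  obtain ⟨y, hy, rfl⟩ := hb
  exact ⟨x * y, mul_mem hx hy,
    (show Commute y x from d.comm y hy x hx).mul_mul_mul_comm x y⟩

theorem sq_inv {a : G} (ha : IsSqIn K a) : IsSqIn K a⁻¹ := by
  obtain ⟨x, hx, rfl⟩ := ha
  exact ⟨x⁻¹, inv_mem hx, by group⟩

theorem sq_mem {a : G} (ha : IsSqIn K a) : a ∈ K := by
  obtain ⟨x, hx, rfl⟩ := ha
  exact mul_mem hx hx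

theorem sq_one : IsSqIn K (1 : G) := ⟨1, one_mem K, one_mul 1⟩

/-- The squares have index two in `K`. -/
theorem sq_iff (d : DData K z v) [Finite G] {a b : G} (ha : a ∈ K) (hb : b ∈ K) :
    IsSqIn K (a * b) ↔ (IsSqIn K a ↔ IsSqIn K b) := by
  classical
  let f : K →* K :=
    { toFun := fun x => x * x
      map_one' := one_mul 1
      map_mul' := fun x y =>
        (show Commute y x from Subtype.ext (d.comm y y.2 x x.2)).mul_mul_mul_comm x y }
  have hker : Nat.card f.ker = 2 := by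
    rw [Nat.card_eq_two_iff]
    refine ⟨1, ⟨⟨z, d.hzK⟩, Subtype.ext (mul_self_eq_one d.hz)⟩,
      fun e => ne_one_of_involution d.hz (congrArg (fun x : f.ker => ((x : K) : G)) e).symm, ?_⟩
    ext x
    simp only [Set.mem_insert_iff, Set.mem_singleton_iff, Set.mem_univ, iff_true]
    rcases d.uniq x.1 x.1.2 (congrArg Subtype.val x.2) with e | e
    · exact Or.inl (Subtype.ext (Subtype.ext e))
    · exact Or.inr (Subtype.ext (Subtype.ext e))
  have hi : f.range.index = 2 := by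
    have h1 := f.range.card_mul_index
    have h2 := f.ker.card_mul_index
    rw [index_ker f, hker] at h2
    rw [← h2, mul_comm 2] at h1
    exact Nat.eq_of_mul_eq_mul_left Nat.card_pos h1
  have hmem : ∀ x : K, x ∈ f.range ↔ IsSqIn K (x : G) := fun x => by
    constructor
    · rintro ⟨y, rfl⟩; exact ⟨y, y.2, rfl⟩
    · rintro ⟨y, hy, e⟩; exact ⟨⟨y, hy⟩, Subtype.ext e⟩
  have := mul_mem_iff_of_index_two hi (a := (⟨a, ha⟩ : K)) (b := ⟨b, hb⟩)
  rwa [hmem, hmem, hmem] at this

theorem exists_sylow (d : DData K z v) [Finite G] :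
    ∃ S : Sylow 2 G, (S : Subgroup G) ≤ centralizer ({z} : Set G) := by
  haveI : Fact (Nat.Prime 2) := ⟨Nat.prime_two⟩
  obtain ⟨T⟩ := (inferInstance : Nonempty (Sylow 2 (centralizer ({z} : Set G))))
  refine ⟨(T.isPGroup'.map (centralizer ({z} : Set G)).subtype).toSylow ?_, map_subtype_le _⟩
  rw [index_map_subtype, Nat.prime_two.dvd_mul, not_or]
  exact ⟨T.not_dvd_index, d.odd_index.not_two_dvd_nat⟩

theorem exists_conj_cent (d : DData K z v) [Finite G] {x : G} (hx : orderOf x = 2) :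
    ∃ g : G, g * x * g⁻¹ ∈ centralizer ({z} : Set G) := by
  obtain ⟨S, hS⟩ := d.exists_sylow
  obtain ⟨g, hg⟩ := exists_conj_sylow S (x := x) (k := 1) (by rw [hx, pow_one])
  exact ⟨g, hS hg⟩

/-- One may assume `v` conjugate to `z`. -/
theorem exists_rep (d : DData K z v) [Finite G] (h : Hyp G) :
    ∃ v' : G, DData K z v' ∧ IsConj v' z := by
  obtain ⟨S, hS⟩ := d.exists_sylow
  obtain ⟨g, hg, hne⟩ := h.exists_fused S d.hz
  obtain ⟨k, hk, e⟩ := (d.involution_cases (by rw [orderOf_conj_eq, d.hz]) (hS hg)).resolve_left hne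
  refine ⟨v * k, ⟨d.hz, d.vK_involution hk, d.hzK, fun hm => d.hvK
    ((Subgroup.mul_mem_cancel_right K hk).1 hm), d.comm, fun x hx => ?_, ?_, d.uniq, d.odd_index⟩,
    (isConj_iff.2 ⟨g, e⟩).symm⟩
  · rw [show v * k * x * (v * k)⁻¹ = v * (k * x * k⁻¹) * v⁻¹ by group, d.comm k hk x hx,
      mul_inv_cancel_right, d.inv x hx]
  · refine le_antisymm (fun c hc => ?_) (sup_le (fun c hc => d.mem_cent_iff.2 (Or.inl hc))
      (zpowers_le.2 (d.mem_cent_iff.2 (Or.inr ?_))))
    · rcases d.mem_cent_iff.1 hc with h1 | h1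
      · exact mem_sup_left h1
      · rw [show c = v * k * (k⁻¹ * (v * c)) by
          rw [← mul_assoc, mul_inv_cancel_right, ← mul_assoc, d.vv, one_mul]]
        exact mul_mem (mem_sup_right (mem_zpowers _)) (mem_sup_left (mul_mem (inv_mem hk) h1))
    · rw [← mul_assoc, d.vv, one_mul]; exact hk

theorem normalizer_eq (d : DData K z v) [Finite G] (h : Hyp G) {x : G} (hx : x ∈ K)
    (hx1 : x ≠ 1) : normalizer (zpowers x : Set G) = centralizer ({z} : Set G) := by
  rcases Nat.even_or_odd (orderOf x) with he | ho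
  · obtain ⟨t, htx, ht⟩ := exists_involution_zpowers he.two_dvd
    rw [← (d.uniq t (zpowers_le.2 hx htx) (mul_self_eq_one ht)).resolve_left
      (ne_one_of_involution ht)]
    exact h.normalizer_zpowers ht htx
  · exact h.odd_normalizer d.hz ho hx1 (d.mem_cent_iff.2 (Or.inl hx))

theorem hti (d : DData K z v) [Finite G] (h : Hyp G) (g x : G)
    (hg : g ∉ centralizer ({z} : Set G)) (hx : x ∈ K) (hgx : g * x * g⁻¹ ∈ K) : x = 1 := by
  by_contra hx1
  have hgx1 : g * x * g⁻¹ ≠ 1 := fun e => hx1 (conj_eq_one_iff.1 e)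
  have hyC : g * z * g⁻¹ ∈ centralizer ({z} : Set G) := by
    rw [← d.normalizer_eq h hgx hgx1]
    refine centralizer_le_normalizer _ (mem_centralizer_iff.2 ?_)
    rintro w ⟨j, rfl⟩
    have hc : Commute (g * x * g⁻¹) (g * z * g⁻¹) :=
      (show Commute x z from d.comm x hx z d.hzK).map (MulAut.conj g).toMonoidHom
    exact (hc.zpow_left j).eq
  have hcen : ∀ c ∈ centralizer ({z} : Set G), Commute c (g * z * g⁻¹) := by
    intro c hc
    rw [← d.normalizer_eq h hgx hgx1, mem_normalizer_iff] at hc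
    have h1 : g⁻¹ * c * g ∈ centralizer ({z} : Set G) := by
      rw [← d.normalizer_eq h hx hx1, mem_normalizer_iff]
      intro w
      have hmem : ∀ w, w ∈ zpowers x ↔ g * w * g⁻¹ ∈ zpowers (g * x * g⁻¹) := fun w => by
        constructor
        · rintro ⟨j, rfl⟩; exact ⟨j, conj_zpow⟩
        · rintro ⟨j, hj⟩
          refine ⟨j, ?_⟩
          simp only [conj_zpow] at hj
          exact mul_left_cancel (mul_right_cancel hj)
      rw [hmem, hmem, show g * (g⁻¹ * c * g * w * (g⁻¹ * c * g)⁻¹) * g⁻¹ =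
        c * (g * w * g⁻¹) * c⁻¹ by group]
      exact hc _
    exact mem_cent.1 (mem_cent_conj.2 h1)
  have hne : g * z * g⁻¹ ≠ z := fun e => hg (mem_cent.2 (mul_inv_eq_iff_eq_mul.1 e))
  obtain ⟨k, hk, e⟩ := (d.involution_cases (by rw [orderOf_conj_eq, d.hz]) hyC).resolve_left hne
  have hall : ∀ y ∈ K, y = 1 ∨ y = z := fun y hy => by
    refine d.uniq y hy ?_
    have h2 := (hcen y (d.mem_cent_iff.2 (Or.inl hy))).symm
    rw [e] at h2
    have h3 : v * y * v⁻¹ = y := by
      have h4 : v * (k * y * k⁻¹) * v⁻¹ = y := by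
        rw [show v * (k * y * k⁻¹) * v⁻¹ = v * k * y * (v * k)⁻¹ by group, h2.eq,
          mul_inv_cancel_right]
      rwa [d.comm k hk y hy, mul_inv_cancel_right] at h4
    rw [d.inv y hy] at h3
    nth_rewrite 1 [← h3]
    exact inv_mul_cancel y
  have hxz := (hall x hx).resolve_left hx1
  subst hxz
  exact hne ((hall _ hgx).resolve_left hgx1)

theorem setup (d : DData K z v) [Finite G] (h : Hyp G)
    (hone : ∀ x : G, orderOf x = 2 → IsConj x z) : BSW.Setup K z v where
  ht := d.hz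
  hs := d.hv
  htK := d.hzK
  hsK := d.hvK
  comm := d.comm
  inv := d.inv
  cent := d.cent
  fix x hx hc := d.uniq x hx (by
    have h1 := d.inv x hx
    rw [← hc, mul_inv_cancel_right] at h1
    nth_rewrite 1 [h1]
    exact inv_mul_cancel x)
  hti := d.hti h
  hconj x y hx hy := (hone x hx).trans (hone y hy).symm

/-- Restriction to a subgroup containing `z` and `v`. -/
theorem restrict (d : DData K z v) {M : Subgroup G} (hzM : z ∈ M) (hvM : v ∈ M)
    (hodd : Odd ((centralizer ({z} : Set G)).relIndex M)) :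
    DData (K.subgroupOf M) (⟨z, hzM⟩ : M) ⟨v, hvM⟩ := by
  have hC : centralizer ({(⟨z, hzM⟩ : M)} : Set M) =
      (centralizer ({z} : Set G)).subgroupOf M := by
    ext c
    rw [mem_subgroupOf, mem_cent, mem_cent]
    exact ⟨fun e => congrArg Subtype.val e.eq, fun e => Subtype.ext e⟩
  refine ⟨by rw [orderOf_mk, d.hz], by rw [orderOf_mk, d.hv], d.hzK, d.hvK,
    fun x hx y hy => Subtype.ext (d.comm x hx y hy), fun x hx => Subtype.ext (d.inv x hx),
    ?_, fun x hx e => ?_, ?_⟩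
  · refine le_antisymm (fun c hc => ?_) (sup_le (fun c hc => ?_) (zpowers_le.2 ?_))
    · rw [hC, mem_subgroupOf] at hc
      rcases d.mem_cent_iff.1 hc with h1 | h1
      · exact mem_sup_left (mem_subgroupOf.2 h1)
      · rw [show c = ⟨v, hvM⟩ * (⟨v, hvM⟩ * c) from Subtype.ext (by
          push_cast; rw [← mul_assoc, d.vv, one_mul])]
        exact mul_mem (mem_sup_right (mem_zpowers _)) (mem_sup_left (mem_subgroupOf.2 h1))
    · rw [hC, mem_subgroupOf]; exact d.mem_cent_iff.2 (Or.inl hc)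
    · rw [hC, mem_subgroupOf]; exact d.mem_cent_iff.2 (Or.inr (by rw [d.vv]; exact one_mem K))
  · exact (d.uniq x hx (congrArg Subtype.val e)).imp (fun h1 => Subtype.ext h1)
      fun h1 => Subtype.ext h1
  · rw [hC]; exact hodd

/-- The index-two conclusion when there are two classes of involutions. -/
structure Outer (d : DData K z v) (M : Subgroup G) (u : G) : Prop where
  normal : M.Normal
  index : M.index = 2
  huC : u ∈ centralizer ({z} : Set G)
  hu : orderOf u = 2
  huM : u ∉ M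
  hzM : z ∈ M
  hvM : v ∈ M
  sq_iff : ∀ k ∈ K, (k ∈ M ↔ IsSqIn K k)
  sqz : IsSqIn K z
  inner : ∀ x ∈ M, orderOf x = 2 → IsConj x z
  outer : ∀ x : G, x ∉ M → orderOf x = 2 → IsConj x u

theorem two_class (d : DData K z v) [Finite G] (hvz : IsConj v z) {x : G} (hx : orderOf x = 2)
    (hxz : ¬ IsConj x z) : ∃ (M : Subgroup G) (u : G), Outer d M u := by
  classical
  haveI : Fact (Nat.Prime 2) := ⟨Nat.prime_two⟩
  obtain ⟨S, hS⟩ := d.exists_sylow
  obtain ⟨g, hg⟩ := exists_conj_sylow S (x := x) (k := 1) (by rw [hx, pow_one])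
  obtain ⟨u, hudef⟩ : ∃ u, u = g * x * g⁻¹ := ⟨_, rfl⟩
  rw [← hudef] at hg
  have hu : orderOf u = 2 := by rw [hudef, orderOf_conj_eq, hx]
  have huz : ¬ IsConj u z := fun e => hxz ((isConj_iff.2 ⟨g, hudef.symm⟩).trans e)
  obtain ⟨k₀, hk₀, huk⟩ := (d.involution_cases hu (hS hg)).resolve_left
    fun e => huz (e ▸ IsConj.refl z)
  have hsqv : ∀ e, IsSqIn K e → IsConj (v * e) z := by
    rintro e ⟨m, hm, rfl⟩
    refine IsConj.trans (IsConj.symm (isConj_iff.2 ⟨m⁻¹, ?_⟩)) hvz
    have := d.conj_v (one_mem K) hm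
    rwa [mul_one, one_mul] at this
  have hk₀sq : ¬ IsSqIn K k₀ := fun e => huz (huk ▸ hsqv _ e)
  -- the subgroup `K² ∪ v K²` of index two
  let L : Subgroup G :=
    { carrier := {c | IsSqIn K c ∨ IsSqIn K (v * c)}
      one_mem' := Or.inl sq_one
      mul_mem' := fun {a b} ha hb => by
        have hflip : ∀ a b : G, a ∈ K → v * (a * b) = a⁻¹ * (v * b) := fun a b ha => by
          rw [← d.inv a ha]; group
        rcases ha with ha | ha <;> rcases hb with hb | hb
        · exact Or.inl (d.sq_mul ha hb)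
        · refine Or.inr ?_
          rw [hflip a b (sq_mem ha)]
          exact d.sq_mul (sq_inv ha) hb
        · refine Or.inr ?_
          rw [← mul_assoc]
          exact d.sq_mul ha hb
        · refine Or.inl ?_
          have h1 : a * b = (v * a)⁻¹ * (v * b) := by
            calc a * b = (v * v) * a * b := by rw [d.vv, one_mul]
              _ = v * ((v * a) * b) := by group
              _ = (v * a)⁻¹ * (v * b) := hflip _ _ (sq_mem ha)
          rw [h1]
          exact d.sq_mul (sq_inv ha) hb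
      inv_mem' := fun {a} ha => by
        rcases ha with ha | ha
        · exact Or.inl (sq_inv ha)
        · refine Or.inr ?_
          have h1 : v * a⁻¹ = v * a := by
            have h2 := d.inv _ (sq_mem ha)
            have h3 : a * a = 1 := by
              rw [show v * (v * a) * v⁻¹ = (v * v) * a * v⁻¹ by group, d.vv, one_mul,
                mul_inv_rev, inv_eq_self_of_involution d.hv] at h2
              exact eq_inv_iff_mul_eq_one.1 (mul_right_cancel h2)
            rw [inv_eq_of_mul_eq_one_right h3]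
          rwa [h1] }
  have hLK : ∀ k ∈ K, (k ∈ L ↔ IsSqIn K k) := fun k hk =>
    ⟨fun hm => hm.resolve_right fun e => d.hvK ((Subgroup.mul_mem_cancel_right K hk).1 (sq_mem e)),
      fun e => Or.inl e⟩
  have hLv : ∀ k ∈ K, (v * k ∈ L ↔ IsSqIn K k) := fun k hk => by
    have e : v * (v * k) = k := by rw [← mul_assoc, d.vv, one_mul]
    refine ⟨fun hm => ?_, fun h1 => Or.inr (by rwa [e])⟩
    rcases hm with h1 | h1
    · exact absurd ((Subgroup.mul_mem_cancel_right K hk).1 (sq_mem h1)) d.hvK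
    · rwa [e] at h1
  have hLi : L.relIndex (S : Subgroup G) = 2 := by
    refine index_eq_two_iff.2 ⟨⟨u, hg⟩, fun b => ?_⟩
    simp only [mem_subgroupOf, coe_mul]
    have key : ((b : G) * u ∈ L ↔ ¬ (b : G) ∈ L) := by
      rcases d.mem_cent_iff.1 (hS b.2) with hb | hb
      · have e : (b : G) * u = v * ((b : G)⁻¹ * k₀) := by
          rw [huk, ← d.inv _ hb,
            show v * (v * (b : G) * v⁻¹ * k₀) = (v * v) * b * v⁻¹ * k₀ by group, d.vv, one_mul,
            inv_eq_self_of_involution d.hv, mul_assoc]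
        rw [e, hLv _ (mul_mem (inv_mem hb) hk₀), hLK _ hb, d.sq_iff (inv_mem hb) hk₀,
          show IsSqIn K (b : G)⁻¹ ↔ IsSqIn K (b : G) from
            ⟨fun h1 => inv_inv (b : G) ▸ sq_inv h1, sq_inv⟩]
        exact ⟨fun h1 h2 => hk₀sq (h1.1 h2), fun h1 => iff_of_false h1 hk₀sq⟩
      · have e1 : (b : G) = v * (v * b) := by rw [← mul_assoc, d.vv, one_mul]
        have e : (b : G) * u = (v * b)⁻¹ * k₀ := by
          rw [huk, ← d.inv _ hb, show v * (v * (b : G)) * v⁻¹ * k₀ = (v * v) * b * v⁻¹ * k₀ by group,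
            d.vv, one_mul, inv_eq_self_of_involution d.hv, mul_assoc]
        rw [e, hLK _ (mul_mem (inv_mem hb) hk₀), d.sq_iff (inv_mem hb) hk₀]
        conv_rhs => rw [e1, hLv _ hb]
        rw [show IsSqIn K (v * (b : G))⁻¹ ↔ IsSqIn K (v * (b : G)) from
            ⟨fun h1 => inv_inv (v * (b : G)) ▸ sq_inv h1, sq_inv⟩]
        exact ⟨fun h1 h2 => hk₀sq (h1.1 h2), fun h1 => iff_of_false h1 hk₀sq⟩
    by_cases hb : (b : G) ∈ L
    · exact Or.inr ⟨hb, fun hm => key.1 hm hb⟩
    · exact Or.inl ⟨key.2 hb, hb⟩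
  obtain ⟨M, hMn, hMi, huM⟩ := CfsgLib.Transfer.thompson_transfer S L hLi u
    (by rw [sq]; exact mul_self_eq_one hu) fun c hcS hcL => huz <| by
      have hc2 : orderOf (c * u * c⁻¹) = 2 := by rw [orderOf_conj_eq, hu]
      refine (isConj_iff.2 ⟨c, rfl⟩).trans ?_
      rcases d.involution_cases hc2 (hS hcS) with e | ⟨k, hk, e⟩
      · rw [e]
      · rw [e] at hcL ⊢
        exact hsqv k ((hLv k hk).1 hcL)
  haveI := hMn
  have hsqM : ∀ e, IsSqIn K e → e ∈ M := by
    rintro e ⟨m, -, rfl⟩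
    exact mul_self_mem_of_index_two hMi m
  have hvzM : v ∈ M ↔ z ∈ M := by
    obtain ⟨c, hc⟩ := isConj_iff.1 hvz
    refine ⟨fun hm => hc ▸ hMn.conj_mem v hm c, fun hm => ?_⟩
    have := hMn.conj_mem z hm c⁻¹
    rwa [← hc, show c⁻¹ * (c * v * c⁻¹) * c⁻¹⁻¹ = v by group] at this
  have hzsq : IsSqIn K z := by
    by_contra hns
    have hzk : z * k₀ ∈ M := hsqM _ ((d.sq_iff d.hzK hk₀).2 (iff_of_false hns hk₀sq))
    refine huM ?_
    rw [huk, show v * k₀ = v * z * (z * k₀) by
      rw [← mul_assoc, mul_assoc v z z, mul_self_eq_one d.hz, mul_one]]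
    refine mul_mem ?_ hzk
    exact (mul_mem_iff_of_index_two hMi).2 hvzM
  have hzM := hsqM _ hzsq
  have hvM := hvzM.2 hzM
  have hk₀M : k₀ ∉ M := fun hm => huM (huk ▸ mul_mem hvM hm)
  have hiff : ∀ k ∈ K, (k ∈ M ↔ IsSqIn K k) := by
    intro k hk
    refine ⟨fun hm => by_contra fun hns => hk₀M ?_, hsqM k⟩
    exact (Subgroup.mul_mem_cancel_left M hm).1
      (hsqM _ ((d.sq_iff hk hk₀).2 (iff_of_false hns hk₀sq)))
  refine ⟨M, u, hMn, hMi, hS hg, hu, huM, hzM, hvM, hiff, hzsq, fun y hy hy2 => ?_,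
    fun y hy hy2 => ?_⟩ <;> obtain ⟨c, hc⟩ := d.exists_conj_cent hy2 <;>
    refine (isConj_iff.2 ⟨c, rfl⟩).trans ?_ <;>
    rcases d.involution_cases (by rw [orderOf_conj_eq, hy2]) hc with e | ⟨k, hk, e⟩
  · rw [e]
  · rw [e]
    refine hsqv k ((hiff k hk).1 ?_)
    have := hMn.conj_mem y hy c
    rw [e] at this
    exact (Subgroup.mul_mem_cancel_left M hvM).1 this
  · exfalso
    refine hy ?_
    have := hMn.conj_mem z hzM c⁻¹
    rwa [← e, show c⁻¹ * (c * y * c⁻¹) * c⁻¹⁻¹ = y by group] at this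
  · rw [e, huk]
    have hknsq : ¬ IsSqIn K k := fun h1 => hy (by
      have := hMn.conj_mem (v * k) (mul_mem hvM (hsqM k h1)) c⁻¹
      rwa [← e, show c⁻¹ * (c * y * c⁻¹) * c⁻¹⁻¹ = y by group] at this)
    obtain ⟨m, hm, hmm⟩ := (d.sq_iff (inv_mem hk) hk₀).2
      (iff_of_false (fun h1 => hknsq (inv_inv k ▸ sq_inv h1)) hk₀sq)
    refine isConj_iff.2 ⟨m⁻¹, ?_⟩
    rw [d.conj_v hk hm, hmm, mul_inv_cancel_left]

theorem Outer.restrict {d : DData K z v} {M : Subgroup G} {u : G} (o : Outer d M u) [Finite G] :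
    DData (K.subgroupOf M) (⟨z, o.hzM⟩ : M) ⟨v, o.hvM⟩ := by
  refine d.restrict o.hzM o.hvM ?_
  set C := centralizer ({z} : Set G)
  have h1 : M.relIndex C = 2 := by
    refine index_eq_two_iff.2 ⟨⟨u, o.huC⟩, fun b => ?_⟩
    simp only [mem_subgroupOf, coe_mul]
    by_cases hb : (b : G) ∈ M
    · exact Or.inr ⟨hb, fun hm => o.huM ((Subgroup.mul_mem_cancel_left M hb).1 hm)⟩
    · exact Or.inl ⟨(mul_mem_iff_of_index_two o.index).2 (iff_of_false hb o.huM), hb⟩
  have e1 := relIndex_mul_index (inf_le_right : C ⊓ M ≤ M)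
  have e2 := relIndex_mul_index (inf_le_left : C ⊓ M ≤ C)
  rw [inf_relIndex_right, o.index] at e1
  rw [inf_relIndex_left, h1, ← e1, mul_comm] at e2
  rw [← Nat.eq_of_mul_eq_mul_right two_pos e2]
  exact d.odd_index

theorem Outer.one_class {d : DData K z v} {M : Subgroup G} {u : G} (o : Outer d M u) [Finite G]
    (x : M) (hx : orderOf x = 2) : IsConj x (⟨z, o.hzM⟩ : M) := by
  haveI := o.normal
  obtain ⟨g, hg⟩ := isConj_iff.1 (o.inner x x.2 (by rw [Subgroup.orderOf_coe, hx]))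
  by_cases hgM : g ∈ M
  · exact isConj_iff.2 ⟨⟨g, hgM⟩, Subtype.ext hg⟩
  · refine isConj_iff.2 ⟨⟨u * g, (mul_mem_iff_of_index_two o.index).2
      (iff_of_false o.huM hgM)⟩, Subtype.ext ?_⟩
    push_cast
    rw [show u * g * (x : G) * (u * g)⁻¹ = u * (g * x * g⁻¹) * u⁻¹ by group, hg,
      (mem_cent.1 o.huC).eq, mul_inv_cancel_right]

theorem simple (d : DData K z v) [Finite G] [Nontrivial G] (h : Hyp G)
    (hone : ∀ x : G, orderOf x = 2 → IsConj x z) : IsSimpleGroup G := by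
  classical
  haveI : Fact (Nat.Prime 2) := ⟨Nat.prime_two⟩
  refine ⟨fun N hN => ?_⟩
  by_cases hbot : N = ⊥
  · exact Or.inl hbot
  right
  haveI := hN
  haveI : Nontrivial N := (nontrivial_iff_ne_bot N).2 hbot
  obtain ⟨⟨x, hxN⟩, hx⟩ := (h.of_normal N).exists_involution
  rw [orderOf_mk] at hx
  have hall : ∀ y : G, orderOf y = 2 → y ∈ N := fun y hy => by
    obtain ⟨c, hc⟩ := isConj_iff.1 ((hone x hx).trans (hone y hy).symm)
    exact hc ▸ hN.conj_mem x hxN c
  have hzN := hall z d.hz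
  have hvN := hall v d.hv
  have hCN : centralizer ({z} : Set G) ≤ N := by
    intro c hc
    have hK : ∀ k ∈ K, k ∈ N := fun k hk =>
      (Subgroup.mul_mem_cancel_left N hvN).1 (hall _ (d.vK_involution hk))
    rcases d.mem_cent_iff.1 hc with h1 | h1
    · exact hK c h1
    · exact (Subgroup.mul_mem_cancel_left N hvN).1 (hK _ h1)
  rw [eq_top_iff]
  by_cases hsq : IsSqIn K z
  · obtain ⟨S, hS⟩ := d.exists_sylow
    obtain ⟨w, hwK, hw⟩ := hsq
    have hwo := orderOf_eq_four d.hz hw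
    have hwC : w ∈ centralizer ({z} : Set G) := d.mem_cent_iff.2 (Or.inl hwK)
    obtain ⟨c, hc, hcS⟩ := Hyp.exists_conj_into S hS
      (IsPGroup.of_card (n := 2) (by rw [Nat.card_zpowers, hwo]; rfl) : IsPGroup 2 (zpowers w))
      (zpowers_le.2 hwC)
    have hwS := hcS w (mem_zpowers w)
    have hw2 : c * w * c⁻¹ * (c * w * c⁻¹) = z := by
      rw [show c * w * c⁻¹ * (c * w * c⁻¹) = c * (w * w) * c⁻¹ by group, hw,
        (mem_cent.1 hc).eq, mul_inv_cancel_right]
    have hwK' : c * w * c⁻¹ ∈ K := by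
      rcases d.mem_cent_iff.1 hc with h1 | h1
      · exact mul_mem (mul_mem h1 hwK) (inv_mem h1)
      · have h3 : c * w * c⁻¹ = v * ((v * c) * w * (v * c)⁻¹) * v⁻¹ := by
          calc c * w * c⁻¹ = (v * v) * c * w * c⁻¹ * (v * v)⁻¹ := by
                rw [d.vv, one_mul, inv_one, mul_one]
            _ = v * ((v * c) * w * (v * c)⁻¹) * v⁻¹ := by group
        rw [h3, d.inv _ (mul_mem (mul_mem h1 hwK) (inv_mem h1))]
        exact inv_mem (mul_mem (mul_mem h1 hwK) (inv_mem h1))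
    have hNS : normalizer ((S : Subgroup G) : Set G) ≤ centralizer ({z} : Set G) := by
      intro g hg
      have hzS : z ∈ (S : Subgroup G) := hw2 ▸ mul_mem hwS hwS
      have hyS := (mem_normalizer_iff.1 hg z).1 hzS
      refine mem_cent.2 (mul_inv_eq_iff_eq_mul.1 ?_)
      refine (d.involution_cases (by rw [orderOf_conj_eq, d.hz]) (hS hyS)).resolve_right ?_
      rintro ⟨k, hk, e⟩
      have h1 : g⁻¹ * (c * w * c⁻¹) * g ∈ (S : Subgroup G) := by
        refine (mem_normalizer_iff.1 hg _).2 ?_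
        rwa [show g * (g⁻¹ * (c * w * c⁻¹) * g) * g⁻¹ = c * w * c⁻¹ by group]
      have h2 : Commute (c * w * c⁻¹) (v * k) := e ▸ mem_cent.1 (mem_cent_conj.2 (hS h1))
      have h3 : v * k * (c * w * c⁻¹) * (v * k)⁻¹ = c * w * c⁻¹ := by
        rw [h2.symm.eq, mul_inv_cancel_right]
      rw [show v * k * (c * w * c⁻¹) * (v * k)⁻¹ = v * (k * (c * w * c⁻¹) * k⁻¹) * v⁻¹ by group,
        d.comm k hk _ hwK', mul_inv_cancel_right, d.inv _ hwK', inv_eq_iff_mul_eq_one, hw2] at h3
      exact ne_one_of_involution d.hz h3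
    have hSN : (S : Subgroup G) ≤ N := hS.trans hCN
    have hF := Sylow.normalizer_sup_eq_top (S.subtype hSN)
    rw [show ((S.subtype hSN : Sylow 2 N) : Subgroup N).map N.subtype = (S : Subgroup G) by
      rw [Sylow.coe_subtype, map_subgroupOf_eq_of_le hSN]] at hF
    rw [← hF]
    exact sup_le (hNS.trans hCN) le_rfl
  · have d' := d.restrict hzN hvN (d.odd_index.of_dvd_nat
      (Dvd.intro _ (relIndex_mul_index hCN)) |> fun h1 => by
        simpa using h1)
    obtain ⟨v', d'', hv'⟩ := d'.exists_rep (h.of_normal N)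
    intro g _
    obtain ⟨n, hn⟩ : ∃ n : N, (n : G) * z * (n : G)⁻¹ = g * z * g⁻¹ := by
      have hy : orderOf (⟨g * z * g⁻¹, hN.conj_mem z hzN g⟩ : N) = 2 := by
        rw [orderOf_mk, orderOf_conj_eq, d.hz]
      by_cases hc : IsConj (⟨g * z * g⁻¹, hN.conj_mem z hzN g⟩ : N) ⟨z, hzN⟩
      · obtain ⟨n, hn⟩ := isConj_iff.1 hc.symm
        exact ⟨n, congrArg Subtype.val hn⟩
      · exfalso
        obtain ⟨M, u, o⟩ := d''.two_class hv' hy hc
        obtain ⟨m, hm, e⟩ := o.sqz
        exact hsq ⟨m, hm, congrArg Subtype.val e⟩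
    have h1 : (n : G)⁻¹ * g ∈ centralizer ({z} : Set G) := mem_cent.2 (by
      calc (n : G)⁻¹ * g * z = (n : G)⁻¹ * (g * z * g⁻¹) * g := by group
        _ = (n : G)⁻¹ * ((n : G) * z * (n : G)⁻¹) * g := by rw [hn]
        _ = z * ((n : G)⁻¹ * g) := by group)
    simpa using mul_mem n.2 (hCN h1)

theorem psl (d : DData K z v) [Finite G] [Nontrivial G] (h : Hyp G)
    (hone : ∀ x : G, orderOf x = 2 → IsConj x z) :
    ∃ (F : Type) (_ : Field F) (_ : Fintype F), 3 < Fintype.card F ∧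
      Nonempty (G ≃* Matrix.ProjectiveSpecialLinearGroup (Fin 2) F) := by
  classical
  haveI := d.simple h hone
  obtain ⟨F, iF, iT, hodd, ⟨e⟩⟩ := BSW.psl_of_concl (BSW.concl_of_setup (d.setup h hone))
  refine ⟨F, iF, iT, ?_, ⟨e⟩⟩
  have h1 := Fintype.one_lt_card (α := F)
  by_contra hle
  have h3 : Fintype.card F = 3 := by
    rcases hodd with ⟨j, hj⟩
    omega
  have h2 := CfsgLib.PSL2.card_psl (F := F)
  rw [h3, ← Nat.card_congr e.toEquiv] at h2
  refine h.card_ne 2 1 ?_
  norm_num at h2 ⊢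
  omega

end DData

end CfsgLib.EvenCyclicNorm
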