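import Cfsg.Agent.Lib.EvenCyclicNorm.Dihedral
import Cfsg.Agent.Lib.PermSmall.Kernel
import Cfsg.Agent.Lib.PermSmall.Recognition

/-!
# Two classes of involutions: `PGL(2, q)`
-/

set_option autoImplicit false
set_option linter.style.haveILetI false

namespace CfsgLib.EvenCyclicNorm

open Subgroup CfsgLib.Involutions MulAction

universe u

variable {G : Type u} [Group G] {K : Subgroup G} {z v : G}

/-- The Borel data of the subgroup of index two, as subgroups of the whole group. -/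
theorem exists_borel [Finite G] {M : Subgroup G} [M.Normal] (hMi : M.index = 2)
    (hM : ∀ a b : ℕ, Nat.card M ≠ 2 ^ a * 3 ^ b) (hc : BSW.Concl M) :
    ∃ (Q D : Subgroup G) (w : G),
      Q ≤ M ∧ D ≤ M ∧ w ∈ M ∧ orderOf w = 2 ∧ w ∉ D ∧ (∀ d ∈ D, w * d * w⁻¹ = d⁻¹) ∧
      (∀ a ∈ D, ∀ b ∈ D, a * b = b * a) ∧ (∀ a ∈ Q, ∀ b ∈ Q, Commute a b) ∧ 2 ≤ Nat.card D ∧ 2 * Nat.card D + 1 = Nat.card Q ∧
      Q ⊓ D = ⊥ ∧ D ≤ normalizer (Q : Set G) ∧
      (∀ m ∈ M, ∀ x ∈ Q, x ≠ 1 → Commute m x → m ∈ Q) ∧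
      (∀ m ∈ M, m ∈ normalizer (Q : Set G) → ∃ x ∈ Q, ∃ d ∈ D, x * d = m) ∧
      Nat.card (normalizer (Q : Set G)) = Nat.card Q * (2 * Nat.card D) ∧
      (normalizer (Q : Set G)).index = Nat.card Q + 1 := by
  classical
  obtain ⟨Q, D, hcard, hC, hDc, hqD, hinf, hNQ, hX⟩ := hc
  obtain ⟨δ, hδ⟩ : ∃ δ, δ = Nat.card D := ⟨_, rfl⟩
  obtain ⟨q, hq⟩ : ∃ q, q = Nat.card Q := ⟨_, rfl⟩
  rw [← hq, ← hδ] at hqD
  rw [← hq] at hcard
  have hMpos := Nat.card_pos (α := M)
  have hδpos : 0 < δ := hδ ▸ Nat.card_pos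
  have hδ2 : 2 ≤ δ := by
    by_contra hlt
    have h1 : δ = 1 := by omega
    have h2 : q = 3 := by omega
    rw [h2] at hcard
    exact hM 2 1 (by norm_num; omega)
  have hM' : Nat.card M = q * (q + 1) * δ := by
    rw [show q - 1 = 2 * δ by omega] at hcard
    have : 2 * Nat.card M = 2 * (q * (q + 1) * δ) := hcard.trans (by ring)
    omega
  have hco : Nat.Coprime q δ := by
    rw [← hqD]; simp [Nat.coprime_mul_left_add_left, mul_comm]
  have hDle : D ≤ normalizer (Q : Set M) := by rw [hNQ]; exact le_sup_right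
  have hmemQD : ∀ {m : M}, m ∈ normalizer (Q : Set M) → ∃ x ∈ Q, ∃ d ∈ D, x * d = m := by
    intro m hm
    rw [hNQ, ← SetLike.mem_coe, coe_mul_of_right_le_normalizer_left Q D hDle, Set.mem_mul] at hm
    exact hm
  have hNM : Nat.card (normalizer (Q : Set M)) = q * δ := by
    refine Nat.dvd_antisymm ?_ ?_
    · haveI : (Q.subgroupOf (normalizer (Q : Set M))).Normal := normal_in_normalizer
      have h1 : (Q.subgroupOf (normalizer (Q : Set M))) ⊔
          (D.subgroupOf (normalizer (Q : Set M))) = ⊤ := by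
        rw [← subgroupOf_sup le_normalizer hDle, ← hNQ, subgroupOf_self]
      have h2 := CfsgLib.PCore.card_sup_dvd_mul (Q.subgroupOf (normalizer (Q : Set M)))
        (D.subgroupOf (normalizer (Q : Set M)))
      rwa [h1, card_top, Nat.card_congr (subgroupOfEquivOfLe le_normalizer).toEquiv,
        Nat.card_congr (subgroupOfEquivOfLe hDle).toEquiv, ← hq, ← hδ] at h2
    · exact hco.mul_dvd_of_dvd_of_dvd (hq ▸ card_dvd_of_le le_normalizer)
        (hδ ▸ card_dvd_of_le hDle)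
  obtain ⟨p, f, hp, hf, hqpf⟩ := BSW.primePow_of_two_orbits hC (by omega) (by
    rw [hNM, ← hq, show q - 1 = δ * 2 by omega, mul_assoc])
  haveI : Fact p.Prime := ⟨hp⟩
  rw [← hq] at hqpf
  have hpd : ¬ p ∣ Q.index := by
    have h1 := Q.card_mul_index
    rw [← hq, hM', mul_assoc] at h1
    rw [Nat.eq_of_mul_eq_mul_left (by omega) h1]
    intro hd
    have hpq : p ∣ q := hqpf ▸ dvd_pow_self p (by omega)
    rcases hp.dvd_mul.1 hd with h2 | h2
    · have := Nat.dvd_sub h2 hpq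
      rw [show q + 1 - q = 1 by omega] at this
      exact hp.one_lt.ne' (Nat.dvd_one.1 this)
    · exact hp.one_lt.ne' (Nat.eq_one_of_dvd_coprimes hco hpq h2)
  have hPp : IsPGroup p Q := IsPGroup.of_card (hq ▸ hqpf)
  have hF := Sylow.normalizer_sup_eq_top (hPp.toSylow hpd)
  rw [show ((hPp.toSylow hpd : Sylow p M) : Subgroup M) = Q from rfl] at hF
  set N := normalizer ((Q.map M.subtype : Subgroup G) : Set G) with hN
  have hQM : Q.map M.subtype ≤ M := map_subtype_le Q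
  have hNsub : N.subgroupOf M = normalizer (Q : Set M) := by
    ext m
    rw [mem_subgroupOf, hN, mem_normalizer_iff, mem_normalizer_iff]
    constructor
    · intro hm x
      have hmi : ∀ y : M, y ∈ Q ↔ (y : G) ∈ Q.map M.subtype := fun y =>
        (mem_map_iff_mem M.subtype_injective).symm
      rw [hmi, hmi]
      simpa using hm (x : G)
    · intro hm g
      constructor
      · rintro ⟨x, hx, rfl⟩
        exact ⟨m * x * m⁻¹, (hm x).1 hx, by simp⟩
      · rintro ⟨x, hx, hxe⟩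
        refine ⟨m⁻¹ * x * m, (hm _).2 ?_, ?_⟩
        · rwa [show m * (m⁻¹ * x * m) * m⁻¹ = x by group]
        · simp only [map_mul, map_inv]
          rw [hxe]
          simp [mul_assoc]
  have hrel : M.relIndex N = 2 := by
    rw [← relIndex_sup_right (H := N) (K := M), show N ⊔ M = ⊤ from hF, relIndex_top_right, hMi]
  have hNcard : Nat.card N = q * (2 * δ) := by
    have h1 := (M.subgroupOf N).card_mul_index
    rw [show (M.subgroupOf N).index = 2 from hrel] at h1
    have h2 : Nat.card (M.subgroupOf N) = q * δ := by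
      rw [← hNM, ← hNsub]
      exact Nat.card_congr
        { toFun := fun x => ⟨⟨x.1.1, x.2⟩, x.1.2⟩
          invFun := fun x => ⟨⟨x.1.1, x.2⟩, x.1.2⟩
          left_inv := fun _ => rfl
          right_inv := fun _ => rfl }
    rw [← h1, h2]; ring
  obtain ⟨-, w, hw, hwD, hwi, -⟩ := hX D le_rfl fun e => by
    rw [e, card_bot] at hδ; omega
  have hcardQ : Nat.card (Q.map M.subtype) = q := by
    rw [card_map_of_injective M.subtype_injective, hq]
  have hcardD : Nat.card (D.map M.subtype) = δ := by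
    rw [card_map_of_injective M.subtype_injective, hδ]
  refine ⟨Q.map M.subtype, D.map M.subtype, w, hQM, map_subtype_le D, w.2,
    by rw [Subgroup.orderOf_coe, hw], fun hm => hwD ((mem_map_iff_mem M.subtype_injective).1 hm),
    ?_, ?_, ?_, by rw [hcardD]; exact hδ2, by rw [hcardD, hcardQ]; exact hqD, ?_, ?_, ?_, ?_,
    by rw [← hN, hNcard, hcardQ, hcardD], ?_⟩
  · rintro _ ⟨d, hd, rfl⟩
    simpa using congrArg Subtype.val (hwi d hd)
  · rintro _ ⟨a, ha, rfl⟩ _ ⟨b, hb, rfl⟩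
    exact congrArg Subtype.val (congrArg Subtype.val (hDc.is_comm.comm ⟨a, ha⟩ ⟨b, hb⟩))
  · rintro _ ⟨a, ha, rfl⟩ _ ⟨b, hb, rfl⟩
    by_cases ha1 : a = 1
    · rw [ha1, map_one]; exact Commute.one_left _
    rw [← hC a ha ha1] at hb
    exact (congrArg Subtype.val (mem_centralizer_singleton_iff.1 hb)).symm
  · rw [← map_inf _ _ _ M.subtype_injective, hinf, Subgroup.map_bot]
  · rintro _ ⟨d, hd, rfl⟩
    have := hDle hd
    rw [← hNsub, mem_subgroupOf] at this
    exact this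
  · rintro m hm _ ⟨x, hx, rfl⟩ hx1 hc
    refine ⟨⟨m, hm⟩, ?_, rfl⟩
    rw [← hC x hx fun e => hx1 (by rw [e]; rfl)]
    exact mem_centralizer_singleton_iff.2 (Subtype.ext hc.eq)
  · intro m hm hmN
    obtain ⟨x, hx, d, hd, e⟩ := hmemQD (m := ⟨m, hm⟩) (by rw [← hNsub, mem_subgroupOf]; exact hmN)
    exact ⟨x, mem_map_of_mem _ hx, d, mem_map_of_mem _ hd, congrArg Subtype.val e⟩
  · rw [← hN, hcardQ]
    have h1 := N.card_mul_index
    have h2 := M.card_mul_index
    rw [hMi, hM'] at h2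
    rw [hNcard, ← h2] at h1
    refine Nat.eq_of_mul_eq_mul_left (show 0 < q * (2 * δ) from
      Nat.mul_pos (by omega) (by omega)) (h1.trans ?_)
    ring

theorem DData.Outer.pgl {d : DData K z v} {M : Subgroup G} {u : G} (o : DData.Outer d M u)
    [Finite G] (h : Hyp G) :
    ∃ (F : Type) (_ : Field F) (_ : Fintype F), 3 < Fintype.card F ∧
      Nonempty (G ≃* Matrix.ProjGenLinGroup (Fin 2) F) := by
  classical
  haveI : Fact (Nat.Prime 2) := ⟨Nat.prime_two⟩
  haveI := o.normal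
  haveI : Nontrivial M := ⟨⟨⟨z, o.hzM⟩, 1, fun e => ne_one_of_involution d.hz
    (congrArg Subtype.val e)⟩⟩
  have dM := o.restrict
  have hMh := h.of_normal M
  haveI := dM.simple hMh o.one_class
  obtain ⟨Q, D, w, hQM, hDM, hwM, hw, hwD, hwi, hDc, hQc, hδ2, hqD, hinf, hDN, hC, hQD, hNcard, hNi⟩ :=
    exists_borel o.index hMh.card_ne (BSW.concl_of_setup (dM.setup hMh o.one_class))
  obtain ⟨q, hq⟩ : ∃ q, q = Nat.card Q := ⟨_, rfl⟩
  rw [← hq] at hqD hNcard hNi
  obtain ⟨N, hN⟩ : ∃ N, N = normalizer (Q : Set G) := ⟨_, rfl⟩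
  rw [← hN] at hDN hQD hNcard hNi
  have hQN : Q ≤ N := hN ▸ le_normalizer
  have hQnorm : ∀ g ∈ N, ∀ x ∈ Q, g * x * g⁻¹ ∈ Q := fun g hg x hx =>
    (mem_normalizer_iff.1 (hN ▸ hg) x).1 hx
  have hqodd : Odd q := ⟨Nat.card D, by omega⟩
  have hQodd : ∀ x ∈ Q, Odd (orderOf x) := fun x hx =>
    hqodd.of_dvd_nat (hq ▸ orderOf_dvd_natCard _ hx)
  have hco : Nat.Coprime q (Nat.card D) := by
    rw [← hqD]; simp [Nat.coprime_mul_left_add_left, mul_comm]
  have hQ1 : ∀ {x y : G}, x ∈ Q → y ∈ D → x * y = 1 → x = 1 ∧ y = 1 := by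
    intro x y hx hy e
    have h1 : x ∈ Q ⊓ D := Subgroup.mem_inf.2
      ⟨hx, by rw [eq_inv_of_mul_eq_one_left e]; exact inv_mem hy⟩
    rw [hinf, mem_bot] at h1
    exact ⟨h1, by rwa [h1, one_mul] at e⟩
  obtain ⟨a, ha⟩ : ∃ a : G ⧸ N, a = ((1 : G) : G ⧸ N) := ⟨_, rfl⟩
  have hsmul : ∀ g m : G, g • (m : G ⧸ N) = ((g * m : G) : G ⧸ N) := fun g m => rfl
  have hstab : ∀ g : G, g • a = a ↔ g ∈ N := by
    intro g
    rw [ha, hsmul, mul_one, QuotientGroup.eq, mul_one]
    exact inv_mem_iff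
  -- elements of `N ∩ M` of order dividing `q` lie in `Q`
  have hpel : ∀ y ∈ M, y ∈ N → y ^ q = 1 → y ∈ Q := by
    intro y hyM hyN hy
    obtain ⟨x, hx, e, he, rfl⟩ := hQD y hyM hyN
    have key : ∀ n : ℕ, (x * e) ^ n * (e ^ n)⁻¹ ∈ Q := by
      intro n
      induction n with
      | zero => simp [one_mem]
      | succ n ih =>
        rw [show (x * e) ^ (n + 1) * (e ^ (n + 1))⁻¹ =
          x * (e * ((x * e) ^ n * (e ^ n)⁻¹) * e⁻¹) by rw [pow_succ', pow_succ']; group]
        exact mul_mem hx (hQnorm e (hDN he) _ ih)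
    have h1 := key q
    rw [hy, one_mul] at h1
    obtain ⟨-, h2⟩ := hQ1 h1 (pow_mem he q) (inv_mul_cancel _)
    have h3 : e = 1 := orderOf_eq_one_iff.1 (Nat.eq_one_of_dvd_coprimes hco
      (orderOf_dvd_of_pow_eq_one h2) (orderOf_dvd_natCard _ he))
    rw [h3, mul_one]; exact hx
  -- `Q` acts semiregularly on the other points
  have hfree : ∀ x ∈ Q, ∀ y : G ⧸ N, y ≠ a → x • y = y → x = 1 := by
    intro x hx y hy hxy
    by_contra hx1
    induction y using QuotientGroup.induction_on with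
    | H m =>
      rw [hsmul, QuotientGroup.eq] at hxy
      have hx' : m⁻¹ * x⁻¹ * m ∈ N := by
        rwa [show m⁻¹ * x⁻¹ * m = (x * m)⁻¹ * m by group]
      have hxM : x ∈ M := hQM hx
      have hconjM : ∀ b ∈ M, m⁻¹ * b * m ∈ M := fun b hb => by
        have := o.normal.conj_mem b hb m⁻¹
        rwa [inv_inv] at this
      have hx'Q : m⁻¹ * x * m ∈ Q := by
        refine hpel _ (hconjM x hxM) ?_ ?_
        · have := inv_mem hx'
          rwa [show (m⁻¹ * x⁻¹ * m)⁻¹ = m⁻¹ * x * m by group] at this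
        · rw [show m⁻¹ * x * m = m⁻¹ * x * m⁻¹⁻¹ by rw [inv_inv], conj_pow,
            orderOf_dvd_iff_pow_eq_one.1 (hq ▸ orderOf_dvd_natCard _ hx)]
          group
      refine hy ?_
      rw [ha, eq_comm, QuotientGroup.eq, inv_one, one_mul, hN]
      have hmap : Q.map (MulAut.conj m).toMonoidHom = Q := by
        refine Subgroup.eq_of_le_of_card_ge ?_
          (card_map_of_injective (f := (MulAut.conj m).toMonoidHom) (MulAut.conj m).injective).ge
        rintro _ ⟨b, hb, rfl⟩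
        refine hC _ (o.normal.conj_mem b (hQM hb) m) x hx hx1 ?_
        have h1 := (hQc b hb _ hx'Q).map (MulAut.conj m).toMonoidHom
        have h2 : (MulAut.conj m).toMonoidHom (m⁻¹ * x * m) = x := by
          simp [mul_assoc]
        rwa [h2] at h1
      refine mem_normalizer_iff.2 fun b => ⟨fun hb => ?_, fun hb => ?_⟩
      · rw [← hmap]; exact ⟨b, hb, rfl⟩
      · rw [← hmap] at hb
        obtain ⟨b', hb', e⟩ := hb
        have e' : m * b' * m⁻¹ = m * b * m⁻¹ := e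
        rwa [← mul_left_cancel (mul_right_cancel e')]
  haveI := Fintype.ofFinite (G ⧸ N)
  have hΩ : Fintype.card (G ⧸ N) = q + 1 := by
    rw [← Nat.card_eq_fintype_card, ← index_eq_card, hNi]
  have hfixa : ∀ x ∈ Q, x • a = a := fun x hx => (hstab x).2 (hQN hx)
  have hne_a : ∀ g ∈ N, ∀ y : G ⧸ N, y ≠ a → g • y ≠ a := fun g hg y hy e =>
    hy (smul_left_cancel g (e.trans ((hstab g).2 hg).symm))
  have hreg : ∀ y y' : G ⧸ N, y ≠ a → y' ≠ a → ∃! x : Q, (x : G) • y = y' := by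
    intro y y' hy hy'
    let f : Q → {p : G ⧸ N // p ≠ a} := fun x => ⟨(x : G) • y, hne_a _ (hQN x.2) y hy⟩
    have hinj : Function.Injective f := by
      intro x x' e
      have e' : (x : G) • y = (x' : G) • y := congrArg Subtype.val e
      have h1 := hfree ((x' : G)⁻¹ * x) (mul_mem (inv_mem x'.2) x.2) y hy
        (by rw [mul_smul, e', inv_smul_smul])
      exact Subtype.ext (inv_mul_eq_one.1 h1).symm
    have hcard : Nat.card Q = Nat.card {p : G ⧸ N // p ≠ a} := by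
      rw [← hq, Nat.card_eq_fintype_card, Fintype.card_subtype_compl, hΩ, Fintype.card_subtype_eq,
        Nat.add_sub_cancel]
    obtain ⟨x, hx⟩ := ((Nat.bijective_iff_injective_and_card f).2 ⟨hinj, hcard⟩).2 ⟨y', hy'⟩
    refine ⟨x, congrArg Subtype.val hx, fun x' hx' => hinj ?_⟩
    exact (Subtype.ext (hx'.trans (congrArg Subtype.val hx).symm) : f x' = f x)
  -- faithfulness
  haveI hfaith : FaithfulSMul G (G ⧸ N) := by
    have hcore : N.normalCore = ⊥ := by
      haveI hs : IsSimpleGroup M := inferInstance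
      have h1 : N.normalCore ⊓ M = ⊥ := by
        rcases hs.eq_bot_or_eq_top_of_normal (N.normalCore.subgroupOf M) inferInstance with e | e
        · rw [subgroupOf_eq_bot] at e
          exact disjoint_iff.1 e
        · exfalso
          have h2 := index_dvd_of_le ((subgroupOf_eq_top.1 e).trans N.normalCore_le)
          rw [hNi, o.index] at h2
          have := Nat.le_of_dvd two_pos h2
          omega
      refine h.solv _ N.normalCore_normal
        (Group.isSolvable_of_comm fun g g' => Subtype.ext ?_)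
      show (g : G) * g' = g' * g
      have h2 : (g : G) * g' * (g : G)⁻¹ * (g' : G)⁻¹ ∈ N.normalCore ⊓ M := by
        refine Subgroup.mem_inf.2 ⟨mul_mem (mul_mem (mul_mem g.2 g'.2) (inv_mem g.2)) (inv_mem g'.2), ?_⟩
        have hmi : ∀ {a b : G}, a * b ∈ M ↔ (a ∈ M ↔ b ∈ M) :=
          fun {a b} => mul_mem_iff_of_index_two o.index
        rw [hmi, hmi, hmi, inv_mem_iff, inv_mem_iff]
        tauto
      rw [h1, mem_bot] at h2
      exact mul_inv_eq_iff_eq_mul.1 (mul_inv_eq_one.1 h2)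
    refine ⟨fun {g g'} e => ?_⟩
    have h1 : g'⁻¹ * g ∈ N.normalCore := by
      intro b
      have h2 := e ((b⁻¹ : G) : G ⧸ N)
      rw [hsmul, hsmul, eq_comm, QuotientGroup.eq] at h2
      rwa [show b * (g'⁻¹ * g) * b⁻¹ = (g' * b⁻¹)⁻¹ * (g * b⁻¹) by group]
    rw [hcore, mem_bot] at h1
    exact (inv_mul_eq_one.1 h1).symm
  -- the second point
  have hwN : w ∉ N := fun hwN => by
    obtain ⟨x, hx, e, he, hxe⟩ := hQD w hwM hwN
    by_cases hx1 : x = 1
    · exact hwD (by rw [← hxe, hx1, one_mul]; exact he)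
    have hxi : ∀ c ∈ D, x * c * x⁻¹ = c⁻¹ := fun c hc => by
      have h1 := hwi c hc
      rw [← hxe, show x * e * c * (x * e)⁻¹ = x * (e * c * e⁻¹) * x⁻¹ by group, hDc e he c hc,
        mul_inv_cancel_right] at h1
      exact h1
    obtain ⟨c, hc, hc1⟩ := exists_ne_one_of_ne_bot (H := D)
      fun e => by rw [e, card_bot] at hδ2; omega
    have hcom : x * c * x⁻¹ * c⁻¹ = 1 := by
      refine (hQ1 (y := 1) ?_ (one_mem D) ?_).1
      · rw [show x * c * x⁻¹ * c⁻¹ = x * (c * x⁻¹ * c⁻¹) by group]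
        exact mul_mem hx (hQnorm c (hDN hc) _ (inv_mem hx))
      · have : x * c * x⁻¹ * c⁻¹ ∈ Q ⊓ D := Subgroup.mem_inf.2 ⟨by
          rw [show x * c * x⁻¹ * c⁻¹ = x * (c * x⁻¹ * c⁻¹) by group]
          exact mul_mem hx (hQnorm c (hDN hc) _ (inv_mem hx)), by
          rw [hxi c hc]; exact mul_mem (inv_mem hc) (inv_mem hc)⟩
        rw [hinf, mem_bot] at this
        rw [this, mul_one]
    have hcx : Commute c x := (mul_inv_eq_iff_eq_mul.1 (mul_inv_eq_one.1 hcom)).symm
    have h2 : c ∈ Q ⊓ D := ⟨hC c (hDM hc) x hx hx1 hcx, hc⟩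
    rw [hinf, mem_bot] at h2
    exact hc1 h2
  obtain ⟨b, hb⟩ : ∃ b, b = w • a := ⟨_, rfl⟩
  have hba : b ≠ a := fun e => hwN ((hstab w).1 (hb ▸ e))
  have hab : a ≠ b := Ne.symm hba
  have hwb : w • b = a := by rw [hb, ← mul_smul, mul_self_eq_one hw, one_smul]
  have hww : w⁻¹ = w := inv_eq_self_of_involution hw
  -- three points
  have hQfix : ∀ g ∈ N, g • b = b → ∀ x : G, x ∈ Q → g • (x • b) = x • b →
      g * x * g⁻¹ = x := by
    intro g hg hgb x hx hgx
    have h1 : (g * x * g⁻¹) • b = x • b := by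
      rw [mul_smul, mul_smul, show g⁻¹ • b = b from inv_smul_eq_iff.2 hgb.symm, hgx]
    exact congrArg Subtype.val (((hreg b (x • b) hba (hne_a x (hQN hx) b hba)).unique
      (y₁ := ⟨g * x * g⁻¹, hQnorm g hg x hx⟩) (y₂ := ⟨x, hx⟩) h1 rfl))
  have hthree : ∀ c : G ⧸ N, c ≠ a → c ≠ b → ∀ g : G, g • a = a → g • b = b → g • c = c →
      g = 1 := by
    intro c hca hcb g hga hgb hgc
    obtain ⟨⟨x, hx⟩, hxc, -⟩ := hreg b c hba hca
    simp only at hxc
    have hx1 : x ≠ 1 := fun e => hcb (by rw [← hxc, e, one_smul])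
    have hgN := (hstab g).1 hga
    have hinM : ∀ g ∈ M, g ∈ N → g • b = b → g * x * g⁻¹ = x → g = 1 := fun g hgM hgN hgb hgx =>
      hfree g (hC g hgM x hx hx1 (mul_inv_eq_iff_eq_mul.1 hgx)) b hba hgb
    have hgx := hQfix g hgN hgb x hx (by rw [hxc, hgc])
    by_cases hgM : g ∈ M
    · exact hinM g hgM hgN hgb hgx
    have hgg : g * g = 1 := hinM _ (mul_self_mem_of_index_two o.index g) (mul_mem hgN hgN)
      (by rw [mul_smul, hgb, hgb]) (by
        rw [show g * g * x * (g * g)⁻¹ = g * (g * x * g⁻¹) * g⁻¹ by group, hgx, hgx])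
    by_contra hg1
    have hgo : orderOf g = 2 := Involutions.orderOf_eq_two_iff_mul.2 ⟨hg1, hgg⟩
    have hle := h.cent_le_of_odd hgo (hQodd x hx) hx1
      (mem_cent.2 (mul_inv_eq_iff_eq_mul.1 hgx).symm)
    refine hg1 (hfaith.eq_of_smul_eq_smul fun y => ?_)
    rw [one_smul]
    by_cases hya : y = a
    · rw [hya, hga]
    obtain ⟨⟨t, ht⟩, htb, -⟩ := hreg b y hba hya
    simp only at htb
    rw [← htb, ← mul_smul, ← (mem_cent.1 (hle (mem_cent.2 (hQc t ht x hx)))).eq, mul_smul, hgb]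
  -- the two point stabiliser
  obtain ⟨H, hH⟩ : ∃ H, H = CfsgLib.PermSmall.Zassenhaus.pairStab G a b := ⟨_, rfl⟩
  have hmemH : ∀ {g : G}, g ∈ H ↔ g • a = a ∧ g • b = b := fun {g} => by
    rw [hH]; exact CfsgLib.PermSmall.Zassenhaus.mem_pairStab
  have hHN : H ≤ N := fun g hg => (hstab g).1 (hmemH.1 hg).1
  have hDH : D ≤ H := fun e he => hmemH.2 ⟨(hstab e).2 (hDN he), by
    rw [hb, ← mul_smul,
      show e * w = w * e⁻¹ by
        calc e * w = (w * w) * e * w := by rw [mul_self_eq_one hw, one_mul]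
          _ = w * (w * e * w⁻¹) := by rw [hww]; group
          _ = w * e⁻¹ := by rw [hwi e he],
      mul_smul, (hstab _).2 (inv_mem (hDN he))]⟩
  have hHM : ∀ g ∈ H, g ∈ M → g ∈ D := by
    intro g hg hgM
    obtain ⟨x, hx, e, he, rfl⟩ := hQD g hgM (hHN hg)
    have h1 : x • b = b := by
      have := (hmemH.1 hg).2
      rwa [mul_smul, (hmemH.1 (hDH he)).2] at this
    rw [hfree x hx b hba h1, one_mul]; exact he
  have hHcard : Nat.card H = 2 * Nat.card D := by
    refine Nat.eq_of_mul_eq_mul_left (show 0 < q from hqodd.pos) ?_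
    rw [← hNcard, hq, ← Nat.card_prod]
    refine Nat.card_eq_of_bijective
      (fun p : Q × H => (⟨(p.1 : G) * p.2, mul_mem (hQN p.1.2) (hHN p.2.2)⟩ : N)) ⟨?_, ?_⟩
    · rintro ⟨x, g⟩ ⟨x', g'⟩ e
      have e' : (x : G) * g = x' * g' := congrArg Subtype.val e
      have h1 : (x : G) • b = (x' : G) • b := by
        have := congrArg (fun t : G => t • b) e'
        simpa [mul_smul, (hmemH.1 g.2).2, (hmemH.1 g'.2).2] using this
      have h2 : x = x' := (hreg b _ hba (hne_a _ (hQN x'.2) b hba)).unique h1 rfl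
      subst h2
      exact Prod.ext rfl (Subtype.ext (mul_left_cancel e'))
    · rintro ⟨g, hg⟩
      obtain ⟨x, hx, -⟩ := hreg b (g • b) hba (hne_a g hg b hba)
      refine ⟨⟨x, ⟨(x : G)⁻¹ * g, hmemH.2 ⟨(hstab _).2 (mul_mem (inv_mem (hQN x.2)) hg), ?_⟩⟩⟩,
        Subtype.ext (mul_inv_cancel_left _ _)⟩
      rw [mul_smul, ← hx, inv_smul_smul]
  obtain ⟨j, hjH, hj⟩ : ∃ j ∈ H, orderOf j = 2 := by
    obtain ⟨⟨j, hj⟩, hjo⟩ := exists_prime_orderOf_dvd_card' (G := H) 2
      (hHcard ▸ dvd_mul_right 2 _)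
    exact ⟨j, hj, by rwa [orderOf_mk] at hjo⟩
  have hjinv : ∀ i ∈ H, orderOf i = 2 → ∀ x ∈ Q, i * x * i⁻¹ = x⁻¹ := by
    intro i hi hio x hx
    obtain ⟨t, ht⟩ : ∃ t, t = x * (i * x * i⁻¹) := ⟨_, rfl⟩
    have htQ : t ∈ Q := ht ▸ mul_mem hx (hQnorm i (hHN hi) x hx)
    have hit : i * t * i⁻¹ = t := by
      rw [ht]
      calc i * (x * (i * x * i⁻¹)) * i⁻¹ = i * x * i⁻¹ * ((i * i) * x * (i * i)⁻¹) := by group
        _ = i * x * i⁻¹ * x := by rw [mul_self_eq_one hio, one_mul, inv_one, mul_one]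
        _ = x * (i * x * i⁻¹) := (hQc _ (hQnorm i (hHN hi) x hx) x hx).eq
    by_cases ht1 : t = 1
    · exact eq_inv_of_mul_eq_one_right (ht.symm.trans ht1)
    exfalso
    refine ne_one_of_involution hio (hthree (t • b) (hne_a t (hQN htQ) b hba) (fun e =>
      ht1 (hfree t htQ b hba e)) i (hmemH.1 hi).1 (hmemH.1 hi).2 ?_)
    rw [← mul_smul, (mul_inv_eq_iff_eq_mul.1 hit), mul_smul, (hmemH.1 hi).2]
  have hjuniq : ∀ i ∈ H, orderOf i = 2 → i = j := by
    intro i hi hio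
    have hk : i * j = 1 := hfaith.eq_of_smul_eq_smul fun y => by
      rw [one_smul]
      by_cases hya : y = a
      · rw [hya, mul_smul, (hmemH.1 hjH).1, (hmemH.1 hi).1]
      obtain ⟨⟨t, ht⟩, htb, -⟩ := hreg b y hba hya
      simp only at htb
      have h1 : i * j * t * (i * j)⁻¹ = t := by
        rw [show i * j * t * (i * j)⁻¹ = i * (j * t * j⁻¹) * i⁻¹ by group, hjinv j hjH hj t ht,
          hjinv i hi hio _ (inv_mem ht), inv_inv]
      rw [← htb, ← mul_smul, mul_inv_eq_iff_eq_mul.1 h1, mul_smul, mul_smul, (hmemH.1 hjH).2,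
        (hmemH.1 hi).2]
    rw [eq_inv_of_mul_eq_one_left hk, inv_eq_self_of_involution hj]
  have hjcen : ∀ g : G, (∀ t ∈ H, g * t * g⁻¹ ∈ H) → Commute g j := fun g hg =>
    mul_inv_eq_iff_eq_mul.1 (hjuniq _ (hg j hjH) (by rw [orderOf_conj_eq, hj]))
  have hwH : ∀ t ∈ H, w * t * w⁻¹ ∈ H := fun t ht => hmemH.2 ⟨by
    rw [hww, mul_smul, mul_smul, ← hb, (hmemH.1 ht).2, hwb], by
    rw [hww, mul_smul, mul_smul, hwb, (hmemH.1 ht).1, ← hb]⟩
  have hHj : ∀ t ∈ H, Commute t j := fun t ht =>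
    hjcen t fun r hr => mul_mem (mul_mem ht hr) (inv_mem ht)
  have hswap : ∃ s : G, s • a = b ∧ s • b = a ∧ IsConj j s ∧
      (∀ t ∈ H, s * t * s⁻¹ = t⁻¹) ∧ ∀ t ∈ H, ∀ r ∈ H, t * r = r * t := by
    have hwj : Commute w j := hjcen w hwH
    by_cases hjM : j ∈ M
    · have hjz := o.inner j hjM hj
      obtain ⟨g, hg⟩ := isConj_iff.1 hjz
      have hC' : ∀ {t : G}, Commute t j → g * t * g⁻¹ ∈ centralizer ({z} : Set G) := fun {t} ht =>
        mem_cent.2 (hg ▸ ht.map (MulAut.conj g).toMonoidHom)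
      have hK : ∀ t ∈ H, g * t * g⁻¹ ∈ K := by
        intro t ht
        refine (d.mem_cent_iff.1 (hC' (hHj t ht))).resolve_right fun hv => ?_
        have e : g * t * g⁻¹ = v * (v * (g * t * g⁻¹)) := by rw [← mul_assoc, d.vv, one_mul]
        have hto : orderOf t = 2 := by
          rw [← orderOf_conj_eq g t, e]
          exact d.vK_involution hv
        rw [hjuniq t ht hto, hg] at hv
        exact d.hvK ((Subgroup.mul_mem_cancel_right K d.hzK).1 hv)
      obtain ⟨k, hk, hwk⟩ := (d.involution_cases (by rw [orderOf_conj_eq, hw])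
        (hC' hwj)).resolve_left fun e => hwN ((hstab w).1 (by
          rw [mul_left_cancel (mul_right_cancel (e.trans hg.symm)), (hmemH.1 hjH).1]))
      refine ⟨w, hb.symm, hwb, hjz.trans (o.inner w hwM hw).symm, fun t ht => ?_,
        fun t ht r hr => ?_⟩
      · refine mul_left_cancel (a := g) (mul_right_cancel (b := g⁻¹) ?_)
        calc g * (w * t * w⁻¹) * g⁻¹ = (g * w * g⁻¹) * (g * t * g⁻¹) * (g * w * g⁻¹)⁻¹ := by
              group
          _ = v * (k * (g * t * g⁻¹) * k⁻¹) * v⁻¹ := by rw [hwk]; group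
          _ = (g * t * g⁻¹)⁻¹ := by
              rw [d.comm k hk _ (hK t ht), mul_inv_cancel_right, d.inv _ (hK t ht)]
          _ = g * t⁻¹ * g⁻¹ := by group
      · refine mul_left_cancel (a := g) (mul_right_cancel (b := g⁻¹) ?_)
        calc g * (t * r) * g⁻¹ = (g * t * g⁻¹) * (g * r * g⁻¹) := by group
          _ = (g * r * g⁻¹) * (g * t * g⁻¹) := d.comm _ (hK t ht) _ (hK r hr)
          _ = g * (r * t) * g⁻¹ := by group
    · have hsplit : ∀ t ∈ H, ∃ e ∈ D, t = e ∨ t = e * j := by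
        intro t ht
        by_cases htM : t ∈ M
        · exact ⟨t, hHM t ht htM, Or.inl rfl⟩
        · exact ⟨t * j, hHM _ (mul_mem ht hjH)
            ((mul_mem_iff_of_index_two o.index).2 (iff_of_false htM hjM)),
            Or.inr (by rw [mul_assoc, mul_self_eq_one hj, mul_one])⟩
      have hwinv : ∀ t ∈ H, w * t * w⁻¹ = t⁻¹ := by
        intro t ht
        obtain ⟨e, he, rfl | rfl⟩ := hsplit t ht
        · exact hwi _ he
        · rw [show w * (e * j) * w⁻¹ = w * e * w⁻¹ * (w * j * w⁻¹) by group, hwi e he, hwj.eq,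
            mul_inv_cancel_right, mul_inv_rev, inv_eq_self_of_involution hj,
            ((hHj e (hDH he)).inv_left).eq]
      have hso : orderOf (w * j) = 2 := Involutions.orderOf_eq_two_iff_mul.2
        ⟨fun e => hjM (by rw [eq_inv_of_mul_eq_one_right e]; exact inv_mem hwM),
          by rw [hwj.symm.mul_mul_mul_comm, mul_self_eq_one hw, mul_self_eq_one hj, one_mul]⟩
      refine ⟨w * j, by rw [mul_smul, (hmemH.1 hjH).1, ← hb],
        by rw [mul_smul, (hmemH.1 hjH).2, hwb],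
        (o.outer j hjM hj).trans
          (o.outer _ (fun hm => hjM ((Subgroup.mul_mem_cancel_left M hwM).1 hm)) hso).symm,
        fun t ht => ?_, fun t ht r hr => ?_⟩
      · rw [show w * j * t * (w * j)⁻¹ = w * (j * t * j⁻¹) * w⁻¹ by group, (hHj t ht).symm.eq,
          mul_inv_cancel_right, hwinv t ht]
      · obtain ⟨e, he, rfl | rfl⟩ := hsplit t ht <;> obtain ⟨e', he', rfl | rfl⟩ := hsplit r hr
        · exact hDc _ he _ he'
        · exact ((show Commute t e' from hDc _ he _ he').mul_right (hHj _ (hDH he))).eq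
        · exact ((show Commute e r from hDc _ he _ he').mul_left (hHj _ (hDH he')).symm).eq
        · exact (((show Commute e e' from hDc _ he _ he').mul_right (hHj _ (hDH he))).mul_left
            ((hHj _ (hDH he')).symm.mul_right (Commute.refl j))).eq
  obtain ⟨s, hsa, hsb, hjs, hsinv, hHc⟩ := hswap
  obtain ⟨g, hg⟩ := isConj_iff.1 hjs
  obtain ⟨c, hc⟩ : ∃ c, c = g • a := ⟨_, rfl⟩
  have hsc : s • c = c := by
    rw [hc, ← mul_smul, ← hg, inv_mul_cancel_right, mul_smul, (hmemH.1 hjH).1]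
  have hac : a ≠ c := fun e => hab (by rw [← hsa, e, hsc])
  have hbc : b ≠ c := fun e => hab (by
    have h1 : s • b = b := by rw [e, hsc]
    rw [← hsb, h1])
  -- transitivity of the pair stabiliser
  have htr : ∀ x y : G ⧸ N, x ≠ a → x ≠ b → y ≠ a → y ≠ b → ∃ t ∈ H, t • x = y := by
    intro x y hxa hxb hya hyb
    let f : H → {p : G ⧸ N // p ≠ a ∧ p ≠ b} := fun t => ⟨(t : G) • x,
      hne_a _ (hHN t.2) x hxa,
      fun e => hxb (smul_left_cancel (t : G) (e.trans (hmemH.1 t.2).2.symm))⟩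
    have hinj : Function.Injective f := by
      intro t t' e
      have e' : (t : G) • x = (t' : G) • x := congrArg Subtype.val e
      have hm := mul_mem (inv_mem t'.2) t.2
      exact Subtype.ext (inv_mul_eq_one.1 (hthree x hxa hxb ((t' : G)⁻¹ * t)
        (hmemH.1 hm).1 (hmemH.1 hm).2 (by rw [mul_smul, e', inv_smul_smul]))).symm
    have hcard : Nat.card H = Nat.card {p : G ⧸ N // p ≠ a ∧ p ≠ b} := by
      rw [hHcard, Nat.card_eq_fintype_card (α := {p : G ⧸ N // p ≠ a ∧ p ≠ b}),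
        Fintype.card_subtype,
        show (Finset.univ.filter fun p : G ⧸ N => p ≠ a ∧ p ≠ b) = ({a, b} : Finset (G ⧸ N))ᶜ by
          ext p; simp,
        Finset.card_compl, Finset.card_pair hab, hΩ]
      omega
    obtain ⟨t, ht⟩ := ((Nat.bijective_iff_injective_and_card f).2 ⟨hinj, hcard⟩).2 ⟨y, hya, hyb⟩
    exact ⟨t, t.2, congrArg Subtype.val ht⟩
  subst hH
  have hQle : Q ≤ stabilizer G a := fun x hx => mem_stabilizer_iff.2 (hfixa x hx)
  obtain ⟨F, iF, iT, hF, e⟩ := CfsgLib.PermSmall.Recognition.pgl_of_inverted hab hac hbc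
    (fun t => hthree c hac.symm hbc.symm t) Q hQle
    ⟨fun x hx t => by
      rw [mem_subgroupOf] at hx ⊢
      exact hQnorm t ((hstab t).1 t.2) x hx⟩
    ⟨⟨fun x y => Subtype.ext (hQc x x.2 y y.2).eq⟩⟩ hreg
    ⟨⟨fun x y => Subtype.ext (hHc x x.2 y y.2)⟩⟩
    (fun W hW hWH hW1 => CfsgLib.PermSmall.Kernel.irreducible_of_transitive hab hQle
      (fun t ht x hx => hQnorm t (hHN ht) x hx) hreg htr W hW hWH hW1)
    (by rw [hHcard, hΩ]; omega) s hsa hsb hsc hsinv
  refine ⟨F, iF, iT, ?_, e⟩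
  rw [hF, hΩ]
  omega

end CfsgLib.EvenCyclicNorm
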