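import Cfsg.Agent.Lib.EvenCyclicNorm.Split

/-!
# Reduction to generalised dihedral centralisers of involutions
-/

set_option autoImplicit false
set_option linter.style.haveILetI false

namespace CfsgLib.EvenCyclicNorm

open Subgroup CfsgLib.Involutions

universe u

variable {G : Type u} [Group G]

/-- The centraliser of the involution `z` is `K⟨v⟩`, with `K` abelian with only one involution,
inverted by `v`. -/
structure DData (K : Subgroup G) (z v : G) : Prop where
  hz : orderOf z = 2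
  hv : orderOf v = 2
  hzK : z ∈ K
  hvK : v ∉ K
  comm : ∀ x ∈ K, ∀ y ∈ K, x * y = y * x
  inv : ∀ x ∈ K, v * x * v⁻¹ = x⁻¹
  cent : centralizer ({z} : Set G) = K ⊔ zpowers v
  uniq : ∀ x ∈ K, x * x = 1 → x = 1 ∨ x = z
  odd_index : Odd (centralizer ({z} : Set G)).index

theorem exists_ne_one_of_ne_bot {H : Subgroup G} (hH : H ≠ ⊥) : ∃ a ∈ H, a ≠ 1 := by
  obtain ⟨⟨a, ha⟩, hne⟩ := ne_bot_iff_exists_ne_one.1 hH
  exact ⟨a, ha, fun e => hne (Subtype.ext e)⟩

theorem inv_eq_self_of_sq {x : G} (h : x * x = 1) : x⁻¹ = x := inv_eq_of_mul_eq_one_right h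

theorem Hyp.ddata_of (h : Hyp G) [Finite G] {S : Sylow 2 G} {B : Subgroup G} {z v : G}
    (hz : orderOf z = 2) (hS : (S : Subgroup G) ≤ centralizer ({z} : Set G))
    (hle : B ≤ (S : Subgroup G)) (hidx : B.relIndex (S : Subgroup G) = 2) (hzB : z ∈ B)
    (hv : orderOf v = 2) (hvS : v ∈ (S : Subgroup G)) (hvB : v ∉ B)
    (hBc : ∀ a ∈ B, ∀ b ∈ B, Commute a b)
    (hBA : ∀ b ∈ B, ∀ a ∈ oddCent z, Commute b a)
    (hBi : ∀ b ∈ B, v * b * v⁻¹ = b⁻¹) (hAi : ∀ a ∈ oddCent z, v * a * v⁻¹ = a⁻¹)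
    (huniq : ∀ b ∈ B, b * b = 1 → b = 1 ∨ b = z) :
    DData (oddCent z ⊔ B) z v := by
  haveI : Fact (Nat.Prime 2) := ⟨Nat.prime_two⟩
  have hn : B ≤ normalizer (oddCent z : Set G) := by
    intro b hb
    refine mem_normalizer_iff.2 fun x => ⟨fun hx => h.conj_mem_oddCent hz hx (hS (hle hb)),
      fun hx => ?_⟩
    have := h.conj_mem_oddCent hz hx (inv_mem (hS (hle hb)))
    rwa [show b⁻¹ * (b * x * b⁻¹) * b⁻¹⁻¹ = x by group] at this
  have hmem : ∀ {x : G}, x ∈ oddCent z ⊔ B ↔ ∃ a ∈ oddCent z, ∃ b ∈ B, a * b = x := fun {x} => by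
    rw [← SetLike.mem_coe, coe_mul_of_right_le_normalizer_left _ _ hn, Set.mem_mul]
    rfl
  have hSA : ∀ {x : G}, x ∈ (S : Subgroup G) → x ∈ oddCent z → x = 1 := fun {x} hx hxA => by
    obtain ⟨k, hk⟩ := exists_pow_orderOf S.isPGroup' hx
    exact eq_one_of_odd_of_two_pow ((h.mem_oddCent hz).1 hxA).2 (k := k) hk.dvd
  refine ⟨hz, hv, mem_sup_right hzB, fun hm => ?_, ?_, ?_, ?_, ?_, ?_⟩
  · obtain ⟨a, ha, b, hb, hab⟩ := hmem.1 hm
    have ha1 : a = 1 := hSA (by
      rw [show a = v * b⁻¹ by rw [← hab, mul_inv_cancel_right]]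
      exact mul_mem hvS (inv_mem (hle hb))) ha
    rw [ha1, one_mul] at hab
    exact hvB (hab ▸ hb)
  · intro x hx y hy
    obtain ⟨a, ha, b, hb, rfl⟩ := hmem.1 hx
    obtain ⟨a', ha', b', hb', rfl⟩ := hmem.1 hy
    exact (((h.oddCent_comm hz ha ha').mul_left (hBA b hb a' ha')).mul_right
      ((hBA b' hb' a ha).symm.mul_left (hBc b hb b' hb'))).eq
  · intro x hx
    obtain ⟨a, ha, b, hb, rfl⟩ := hmem.1 hx
    rw [show v * (a * b) * v⁻¹ = v * a * v⁻¹ * (v * b * v⁻¹) by group, hAi a ha, hBi b hb,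
      ← mul_inv_rev, (hBA b hb a ha).eq]
  · refine le_antisymm (fun c hc => ?_)
      (sup_le (sup_le (oddCent_le z) (hle.trans hS)) (zpowers_le.2 (hS hvS)))
    obtain ⟨a, ha, s, hs, rfl⟩ := h.exists_mul S hz hS hc
    refine mul_mem (mem_sup_left (mem_sup_left ha)) ?_
    by_cases hsB : s ∈ B
    · exact mem_sup_left (mem_sup_right hsB)
    · have hsv : s * v ∈ B := (mul_mem_iff_of_index_two
        (show (B.subgroupOf (S : Subgroup G)).index = 2 from hidx)
        (a := ⟨s, hs⟩) (b := ⟨v, hvS⟩)).2 (iff_of_false hsB hvB)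
      rw [show s = s * v * v⁻¹ by group]
      exact mul_mem (mem_sup_left (mem_sup_right hsv))
        (inv_mem (mem_sup_right (mem_zpowers v)))
  · intro x hx hx2
    obtain ⟨a, ha, b, hb, rfl⟩ := hmem.1 hx
    rw [(hBA b hb a ha).mul_mul_mul_comm] at hx2
    have haa : a * a = 1 := hSA (by
      rw [eq_inv_of_mul_eq_one_left hx2]
      exact inv_mem (mul_mem (hle hb) (hle hb))) (mul_mem ha ha)
    rw [haa, one_mul] at hx2
    rw [eq_one_of_odd_sq ((h.mem_oddCent hz).1 ha).2 haa, one_mul]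
    exact huniq b hb hx2
  · refine Odd.of_dvd_nat ?_ (index_dvd_of_le hS)
    rw [← Nat.not_even_iff_odd, even_iff_two_dvd]
    exact S.not_dvd_index

theorem Hyp.elementary (h : Hyp G) [Finite G] [Nontrivial G] (S : Sylow 2 G)
    (hE : ∀ x ∈ (S : Subgroup G), x * x = 1) :
    (∃ (F : Type) (_ : Field F) (_ : Fintype F), CharP F 2 ∧ 3 < Fintype.card F ∧
      Nonempty (G ≃* Matrix.SpecialLinearGroup (Fin 2) F)) ∨
    ∃ (K : Subgroup G) (z v : G), DData K z v := by
  classical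
  have hcomm : ∀ a ∈ (S : Subgroup G), ∀ b ∈ (S : Subgroup G), Commute a b := fun a ha b hb => by
    have := inv_eq_self_of_sq (hE _ (mul_mem ha hb))
    rw [mul_inv_rev, inv_eq_self_of_sq (hE a ha), inv_eq_self_of_sq (hE b hb)] at this
    exact this.symm
  have hSt : ∀ t ∈ (S : Subgroup G), (S : Subgroup G) ≤ centralizer ({t} : Set G) :=
    fun t ht s hs => mem_cent.2 (hcomm s hs t ht)
  by_cases hall : ∀ t ∈ (S : Subgroup G), orderOf t = 2 → ∀ s ∈ (S : Subgroup G),
      ∀ a ∈ oddCent t, Commute s a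
  · exact Or.inl (h.sl_of_abelian (abelian_cents S fun t ht ht2 =>
      h.cent_comm S ht2 (hSt t ht) hcomm (hall t ht ht2)))
  push Not at hall
  obtain ⟨z, hzS, hz, s, hsS, a, ha, hsa⟩ := hall
  have ha1 : a ≠ 1 := fun e => hsa (e ▸ Commute.one_right s)
  obtain ⟨B, hB⟩ : ∃ B, B = (S : Subgroup G) ⊓ centralizer (oddCent z : Set G) := ⟨_, rfl⟩
  have hmemB : ∀ {x : G}, x ∈ B ↔ x ∈ (S : Subgroup G) ∧ ∀ b ∈ oddCent z, Commute x b :=
    fun {x} => by
      rw [hB, Subgroup.mem_inf, mem_centralizer_iff]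
      exact and_congr_right fun _ => forall₂_congr fun b _ => eq_comm
  have hle : B ≤ (S : Subgroup G) := fun x hx => (hmemB.1 hx).1
  have hord : ∀ x ∈ (S : Subgroup G), x ∉ B → orderOf x = 2 := fun x hx hxB =>
    Involutions.orderOf_eq_two_iff_mul.2 ⟨fun e => hxB (e ▸ B.one_mem), hE x hx⟩
  have hinv : ∀ x ∈ (S : Subgroup G), x ∉ B → ∀ b ∈ oddCent z, x * b * x⁻¹ = b⁻¹ :=
    fun x hx hxB => (h.cent_or_inv hz (hord x hx hxB) (hSt z hzS hx)).resolve_left
      fun hc => hxB (hmemB.2 ⟨hx, hc⟩)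
  have hsB : s ∉ B := fun hm => hsa ((hmemB.1 hm).2 a ha)
  have hzB : z ∈ B := hmemB.2 ⟨hzS, fun b hb => (mem_cent.1 (oddCent_le z hb)).symm⟩
  have hidx : B.relIndex (S : Subgroup G) = 2 := by
    refine index_eq_two_iff.2 ⟨⟨s, hsS⟩, fun b => ?_⟩
    simp only [mem_subgroupOf, coe_mul]
    by_cases hb : (b : G) ∈ B
    · exact Or.inr ⟨hb, fun hm => hsB ((Subgroup.mul_mem_cancel_left B hb).1 hm)⟩
    · refine Or.inl ⟨hmemB.2 ⟨mul_mem b.2 hsS, fun c hc => ?_⟩, hb⟩
      refine mul_inv_eq_iff_eq_mul.1 ?_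
      rw [show (b : G) * s * c * ((b : G) * s)⁻¹ = b * (s * c * s⁻¹) * (b : G)⁻¹ by group,
        hinv s hsS hsB c hc, hinv b b.2 hb _ (inv_mem hc), inv_inv]
  have hBA : ∀ b ∈ B, ∀ c ∈ oddCent z, Commute b c := fun b hb => (hmemB.1 hb).2
  have hBc : ∀ x ∈ B, ∀ y ∈ B, Commute x y := fun x hx y hy => hcomm x (hle hx) y (hle hy)
  by_cases hother : ∃ t ∈ B, orderOf t = 2 ∧ t ≠ z
  · exfalso
    refine Split.false_of_sq_ne (S := S) (B := B) ⟨hle, hidx, hz, hzB, hother, ?_, hSt z hzS, ?_,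
      hBc, hBA⟩ h (Or.inr ha) fun e => ha1 (eq_one_of_odd_sq ((h.mem_oddCent hz).1 ha).2 e)
    · intro t ht ht2
      exact h.cent_eq_of_fix hz ht2 ha ha1 (hBA t ht a ha)
    · intro v hv hvB
      refine ⟨hE v hv, fun e => hvB (hmemB.2 ⟨hv, fun b hb => ?_⟩)⟩
      have := oddCent_le z hb
      rw [← e] at this
      exact (mem_cent.1 this).symm
  · push Not at hother
    refine Or.inr ⟨_, z, s, h.ddata_of hz (hSt z hzS) hle hidx hzB (hord s hsS hsB) hsS hsB hBc hBA
      (fun b hb => ?_) (hinv s hsS hsB) fun b hb hb2 => ?_⟩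
    · rw [(hcomm s hsS b (hle hb)).eq, mul_inv_cancel_right, inv_eq_self_of_sq (hE b (hle hb))]
    · by_cases hb1 : b = 1
      · exact Or.inl hb1
      · exact Or.inr (hother b hb (Involutions.orderOf_eq_two_iff_mul.2 ⟨hb1, hb2⟩))

/-- Elements of order four with different squares commute. -/
theorem Hyp.commute_four (h : Hyp G) [Finite G] {P : Subgroup G} (hP : IsPGroup 2 P) {x y : G}
    (hx : x ∈ P) (hxo : orderOf x = 4) (hy : y ∈ P) (hyo : orderOf y = 4)
    (hne : x * x ≠ y * y) : Commute x y := by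
  rcases h.conj_four hP hx hxo hy with e | e
  · exact (mul_inv_eq_iff_eq_mul.1 e).symm
  exfalso
  have hc : x * y * x⁻¹ * y⁻¹ = x * x := by
    calc x * y * x⁻¹ * y⁻¹ = x * (y * x * y⁻¹)⁻¹ := by group
      _ = x * x := by rw [e, inv_inv]
  rcases h.conj_four hP hy hyo hx with e' | e' <;> rw [e'] at hc
  · rw [mul_inv_cancel] at hc
    exact ne_one_of_involution (orderOf_sq_four hxo) hc.symm
  · rw [← mul_inv_rev, inv_eq_self_of_involution (orderOf_sq_four hyo)] at hc
    exact hne hc.symm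

theorem Hyp.two_squares (h : Hyp G) [Finite G] [Nontrivial G] (S : Sylow 2 G) {w w' : G}
    (hw : w ∈ (S : Subgroup G)) (hwo : orderOf w = 4) (hw' : w' ∈ (S : Subgroup G))
    (hw'o : orderOf w' = 4) (hne : w * w ≠ w' * w') : False := by
  classical
  have hP := S.isPGroup'
  -- the sign of the action on the elements of order four is uniform
  have hagree : ∀ s ∈ (S : Subgroup G), ∀ x ∈ (S : Subgroup G), ∀ y ∈ (S : Subgroup G),
      orderOf x = 4 → orderOf y = 4 → x * x ≠ y * y → Commute s x → Commute s y := by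
    intro s hs x hx y hy hxo hyo hxy hsx
    rcases h.conj_four hP hy hyo hs with e | e
    · exact mul_inv_eq_iff_eq_mul.1 e
    exfalso
    have hc := h.commute_four hP hx hxo hy hyo hxy
    have hx2 := orderOf_sq_four hxo
    have hy2 := orderOf_sq_four hyo
    have hp : (x * y) * (x * y) = (x * x) * (y * y) := hc.symm.mul_mul_mul_comm x y
    have hxy2 : orderOf (x * x * (y * y)) = 2 := by
      refine Involutions.orderOf_eq_two_iff_mul.2 ⟨fun e1 => hxy ?_, ?_⟩
      · rw [← inv_eq_of_mul_eq_one_right e1, inv_eq_self_of_involution hx2]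
      · rw [((hc.symm.mul_right hc.symm).mul_left (hc.symm.mul_right hc.symm)).mul_mul_mul_comm,
          mul_self_eq_one hx2, mul_self_eq_one hy2, one_mul]
    have hconj : s * (x * y) * s⁻¹ = x * y⁻¹ := by
      rw [show s * (x * y) * s⁻¹ = (s * x * s⁻¹) * (s * y * s⁻¹) by group, e, hsx.eq,
        mul_inv_cancel_right]
    rcases h.conj_four hP (mul_mem hx hy) (orderOf_eq_four hxy2 hp) hs with e1 | e1 <;>
      rw [hconj] at e1
    · exact ne_one_of_involution hy2 (inv_eq_iff_mul_eq_one.1 (mul_left_cancel e1))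
    · rw [mul_inv_rev] at e1
      have e2 : x = x⁻¹ := mul_right_cancel (e1.trans (hc.inv_inv).symm.eq)
      exact ne_one_of_involution hx2 (eq_inv_iff_mul_eq_one.1 e2)
  have hsign : ∀ s ∈ (S : Subgroup G), Commute s w →
      ∀ x ∈ (S : Subgroup G), orderOf x = 4 → Commute s x := by
    intro s hs hsw x hx hxo
    by_cases hxw : w * w = x * x
    · exact hagree s hs w' hw' x hx hw'o hxo (fun e => hne (hxw.trans e.symm))
        (hagree s hs w hw w' hw' hwo hw'o hne hsw)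
    · exact hagree s hs w hw x hx hwo hxo hxw hsw
  obtain ⟨B, hB⟩ : ∃ B, B = (S : Subgroup G) ⊓ centralizer ({w} : Set G) := ⟨_, rfl⟩
  have hmemB : ∀ {x : G}, x ∈ B ↔ x ∈ (S : Subgroup G) ∧ Commute x w := fun {x} => by
    rw [hB, Subgroup.mem_inf, mem_cent]
  have hle : B ≤ (S : Subgroup G) := fun x hx => (hmemB.1 hx).1
  have hwB : w ∈ B := hmemB.2 ⟨hw, Commute.refl w⟩
  have hfour : ∀ x ∈ (S : Subgroup G), orderOf x = 4 → x ∈ B := by
    intro x hx hxo
    refine hmemB.2 ⟨hx, ?_⟩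
    by_cases e : x * x = w * w
    · refine hagree x hx w' hw' w hw hw'o hwo hne.symm ?_
      exact h.commute_four hP hx hxo hw' hw'o fun e' => hne (e.symm.trans e')
    · exact h.commute_four hP hx hxo hw hwo e
  have hwt : ∀ t ∈ B, t * t = 1 → orderOf (w * t) = 4 := fun t ht ht2 =>
    orderOf_eq_four (orderOf_sq_four hwo)
      (by rw [(hmemB.1 ht).2.mul_mul_mul_comm, ht2, mul_one])
  -- the elements of `B` of order at most four are central in it
  have hsq : ∀ t ∈ B, t * t = 1 → ∀ s ∈ B, Commute s t := by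
    intro t ht ht2 s hs
    have h1 := hsign s (hle hs) (hmemB.1 hs).2 (w * t) (mul_mem hw (hle ht)) (hwt t ht ht2)
    have h2 := (hmemB.1 hs).2.inv_right.mul_right h1
    rwa [inv_mul_cancel_left] at h2
  have hBc : ∀ a ∈ B, ∀ b ∈ B, Commute a b := by
    have hn : ∀ H : Subgroup B, H.Normal := fun H => ⟨fun x hx c => by
      rcases sq_eq_one_or_four_dvd hP (hle x.2) with e | e
      · have : c * x * c⁻¹ = x := Subtype.ext (by
          push_cast
          rw [(hsq x x.2 e c c.2).eq, mul_inv_cancel_right])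
        rw [this]; exact hx
      · obtain ⟨k, hk⟩ := h.conj_mem_two hP (hle x.2) e (hle c.2)
        have : c * x * c⁻¹ = x ^ k := Subtype.ext (by
          push_cast
          exact hk.symm)
        rw [this]; exact zpow_mem hx k⟩
    by_contra hcon
    push Not at hcon
    obtain ⟨a₀, ha₀, b₀, hb₀, hab₀⟩ := hcon
    obtain ⟨⟨a, haB⟩, ⟨b, hbB⟩, haa, -, hne1, hcc⟩ :=
      Hamiltonian82.exists_qpair_of_not_comm hn fun hc =>
        hab₀ (congrArg Subtype.val (hc.is_comm.comm ⟨a₀, ha₀⟩ ⟨b₀, hb₀⟩))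
    have haa' : a * a = a * b * a⁻¹ * b⁻¹ := congrArg Subtype.val haa
    have hne' : a * b * a⁻¹ * b⁻¹ ≠ 1 := fun e => hne1 (Subtype.ext e)
    have hcc' : a * b * a⁻¹ * b⁻¹ * (a * b * a⁻¹ * b⁻¹) = 1 := congrArg Subtype.val hcc
    have hao : orderOf a = 4 := orderOf_eq_four
      (Involutions.orderOf_eq_two_iff_mul.2 ⟨hne', hcc'⟩) haa'
    refine hne' ?_
    rw [← (hsign b (hle hbB) (hmemB.1 hbB).2 a (hle haB) hao).eq, mul_inv_cancel_right,
      mul_inv_cancel]
  have hout : ∀ v ∈ (S : Subgroup G), v ∉ B →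
      v * v = 1 ∧ ∀ x ∈ (S : Subgroup G), orderOf x = 4 → v * x * v⁻¹ = x⁻¹ := by
    intro v hv hvB
    have hinv : ∀ x ∈ (S : Subgroup G), orderOf x = 4 → v * x * v⁻¹ = x⁻¹ := by
      intro x hx hxo
      refine (h.conj_four hP hx hxo hv).resolve_left fun e => hvB (hmemB.2 ⟨hv, ?_⟩)
      by_cases e' : x * x = w * w
      · refine hagree v hv w' hw' w hw hw'o hwo hne.symm ?_
        exact hagree v hv x hx w' hw' hxo hw'o (fun e'' => hne (e'.symm.trans e''))
          (mul_inv_eq_iff_eq_mul.1 e)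
      · exact hagree v hv x hx w hw hxo hwo e' (mul_inv_eq_iff_eq_mul.1 e)
    refine ⟨(sq_eq_one_or_four_dvd hP hv).resolve_right fun h4 => ?_, hinv⟩
    obtain ⟨x, hxv, hxo⟩ := exists_root h4
    have e := hinv x (zpowers_le.2 hv hxv) hxo
    obtain ⟨j, rfl⟩ := hxv
    rw [((Commute.refl v).zpow_right j).eq, mul_inv_cancel_right] at e
    exact ne_one_of_involution (orderOf_sq_four hxo) (eq_inv_iff_mul_eq_one.1 e)
  have hSt : ∀ t ∈ B, t * t = 1 → (S : Subgroup G) ≤ centralizer ({t} : Set G) := by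
    intro t ht ht2 s hs
    by_cases hsB : s ∈ B
    · exact mem_cent.2 (hsq t ht ht2 s hsB)
    · have e1 := (hout s hs hsB).2 w hw hwo
      have e2 := (hout s hs hsB).2 _ (mul_mem hw (hle ht)) (hwt t ht ht2)
      refine mem_cent.2 (mul_inv_eq_iff_eq_mul.1 ?_)
      calc s * t * s⁻¹ = (s * w * s⁻¹)⁻¹ * (s * (w * t) * s⁻¹) := by group
        _ = w * (w * t)⁻¹ := by rw [e1, e2, inv_inv]
        _ = w * t⁻¹ * w⁻¹ := by group
        _ = t := by rw [inv_eq_self_of_sq ht2, ← (hmemB.1 ht).2.eq, mul_inv_cancel_right]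
  -- a square involution with a non-trivial `oddCent`, if there is one
  obtain ⟨x₀, hx₀, hx₀o, hmax⟩ : ∃ x ∈ (S : Subgroup G), orderOf x = 4 ∧
      (oddCent (x * x) ≠ ⊥ ∨ ∀ y ∈ (S : Subgroup G), orderOf y = 4 → oddCent (y * y) = ⊥) := by
    by_cases hA : ∀ y ∈ (S : Subgroup G), orderOf y = 4 → oddCent (y * y) = ⊥
    · exact ⟨w, hw, hwo, Or.inr hA⟩
    · push Not at hA
      obtain ⟨y, hy, hyo, hy'⟩ := hA
      exact ⟨y, hy, hyo, Or.inl hy'⟩
  have hx₀B := hfour x₀ hx₀ hx₀o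
  obtain ⟨z, hzdef⟩ : ∃ z, z = x₀ * x₀ := ⟨_, rfl⟩
  have hz : orderOf z = 2 := hzdef ▸ orderOf_sq_four hx₀o
  have hzB : z ∈ B := hzdef ▸ mul_mem hx₀B hx₀B
  have hSz := hSt z hzB (mul_self_eq_one hz)
  have hroot : ∀ x ∈ (S : Subgroup G), x * x = z → ∀ a ∈ oddCent z, Commute x a :=
    fun x hx hxx a ha => by
      obtain ⟨k, hk⟩ := exists_pow_orderOf hP hx
      exact h.root_commute hz (hxx ▸ sq_mem_zpowers x) hk ha
  have hcent : ∀ t ∈ B, orderOf t = 2 →
      centralizer ({t} : Set G) = centralizer ({z} : Set G) := by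
    intro t ht ht2
    have htt := mul_self_eq_one ht2
    have hxt : Commute x₀ t := hBc x₀ hx₀B t ht
    rw [← hzdef] at hmax
    rcases hmax with hA | hA
    · obtain ⟨a, ha, ha1⟩ := exists_ne_one_of_ne_bot hA
      refine h.cent_eq_of_fix hz ht2 ha ha1 ?_
      have h1 := hroot (x₀ * t) (mul_mem hx₀ (hle ht))
        (by rw [hxt.symm.mul_mul_mul_comm, htt, mul_one, hzdef]) a ha
      have h2 := (hroot x₀ hx₀ hzdef.symm a ha).inv_left.mul_left h1
      rwa [inv_mul_cancel_left] at h2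
    · have hAt : oddCent t = ⊥ := by
        rw [eq_bot_iff]
        intro a ha
        rw [mem_bot]
        have ha' := (h.mem_oddCent ht2).1 ha
        have key : ∀ y ∈ (S : Subgroup G), orderOf y = 4 → Commute (y * y) a → a = 1 := by
          intro y hy hyo hc
          have := (h.mem_oddCent (orderOf_sq_four hyo)).2 ⟨mem_cent.2 hc.symm, ha'.2⟩
          rwa [hA y hy hyo, mem_bot] at this
        by_contra ha1
        have hinv : ∀ y ∈ (S : Subgroup G), orderOf y = 4 →
            ∀ b ∈ oddCent t, y * y * b * (y * y)⁻¹ = b⁻¹ := fun y hy hyo =>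
          (h.cent_or_inv ht2 (orderOf_sq_four hyo)
            (hSt t ht htt (mul_mem hy hy))).resolve_left fun hc => ha1 (key y hy hyo (hc a ha))
        have hc4 := h.commute_four hP hw hwo hw' hw'o hne
        have hp : (w * w') * (w * w') = (w * w) * (w' * w') := hc4.symm.mul_mul_mul_comm w w'
        have hzu : orderOf (w * w * (w' * w')) = 2 := by
          have h2 := orderOf_sq_four hwo
          have h2' := orderOf_sq_four hw'o
          refine Involutions.orderOf_eq_two_iff_mul.2 ⟨fun e1 => hne ?_, ?_⟩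
          · rw [← inv_eq_of_mul_eq_one_right e1, inv_eq_self_of_involution h2]
          · rw [((hc4.symm.mul_right hc4.symm).mul_left (hc4.symm.mul_right hc4.symm)
              ).mul_mul_mul_comm, mul_self_eq_one h2, mul_self_eq_one h2', one_mul]
        refine ha1 (key _ (mul_mem hw hw') (orderOf_eq_four hzu hp) ?_)
        rw [hp]
        refine mul_inv_eq_iff_eq_mul.1 ?_
        rw [show w * w * (w' * w') * a * (w * w * (w' * w'))⁻¹ =
          w * w * (w' * w' * a * (w' * w')⁻¹) * (w * w)⁻¹ by group, hinv w' hw' hw'o a ha,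
          hinv w hw hwo _ (inv_mem ha), inv_inv]
      have hzA : oddCent z = ⊥ := hzdef ▸ hA x₀ hx₀ hx₀o
      have key : ∀ u : G, orderOf u = 2 → (S : Subgroup G) ≤ centralizer ({u} : Set G) →
          oddCent u = ⊥ → centralizer ({u} : Set G) = (S : Subgroup G) := by
        intro u hu hSu hAu
        refine le_antisymm (fun c hc => ?_) hSu
        obtain ⟨a, ha, s, hs, rfl⟩ := h.exists_mul S hu hSu hc
        rw [hAu, mem_bot] at ha
        rw [ha, one_mul]; exact hs
      rw [key t ht2 (hSt t ht htt) hAt, key z hz hSz hzA]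
  have hBA : ∀ b ∈ B, ∀ a ∈ oddCent z, Commute b a := by
    intro b hb a ha
    by_cases hb1 : b = 1
    · exact hb1 ▸ Commute.one_left a
    rcases sq_eq_one_or_four_dvd hP (hle hb) with e | e
    · have hb2 : orderOf b = 2 := Involutions.orderOf_eq_two_iff_mul.2 ⟨hb1, e⟩
      have := oddCent_le z ha
      rw [← hcent b hb hb2] at this
      exact (mem_cent.1 this).symm
    · obtain ⟨t, htb, ht⟩ := exists_involution_zpowers
        (dvd_trans (by norm_num : 2 ∣ 4) e)
      obtain ⟨k, hk⟩ := exists_pow_orderOf hP (hle hb)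
      rw [← oddCent_congr (hcent t (zpowers_le.2 hb htb) ht)] at ha
      exact h.root_commute ht htb hk ha
  have hwz : Commute w z := hBc w hwB z hzB
  have hw2 : w * w ≠ 1 := ne_one_of_involution (orderOf_sq_four hwo)
  by_cases hBS : ∀ s ∈ (S : Subgroup G), s ∈ B
  · obtain ⟨F, iF, iT, hF, -, ⟨e⟩⟩ := h.sl_of_abelian (abelian_cents S fun t ht ht2 => by
      rw [hcent t (hBS t ht) ht2]
      exact h.cent_comm S hz hSz (fun a ha b hb => hBc a (hBS a ha) b (hBS b hb))
        (fun s hs => hBA s (hBS s hs)))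
    exact false_of_sl_iso e hz hwz hw2
  push Not at hBS
  obtain ⟨v, hv, hvB⟩ := hBS
  have hidx : B.relIndex (S : Subgroup G) = 2 := by
    refine index_eq_two_iff.2 ⟨⟨v, hv⟩, fun b => ?_⟩
    simp only [mem_subgroupOf, coe_mul]
    by_cases hb : (b : G) ∈ B
    · exact Or.inr ⟨hb, fun hm => hvB ((Subgroup.mul_mem_cancel_left B hb).1 hm)⟩
    · refine Or.inl ⟨hmemB.2 ⟨mul_mem b.2 hv, mul_inv_eq_iff_eq_mul.1 ?_⟩, hb⟩
      rw [show (b : G) * v * w * ((b : G) * v)⁻¹ = b * (v * w * v⁻¹) * (b : G)⁻¹ by group,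
        (hout v hv hvB).2 w hw hwo,
        show (b : G) * w⁻¹ * (b : G)⁻¹ = (b * w * (b : G)⁻¹)⁻¹ by group,
        (hout b b.2 hb).2 w hw hwo, inv_inv]
  have hother : ∃ t ∈ B, orderOf t = 2 ∧ t ≠ z := by
    by_cases e : w * w = z
    · exact ⟨w' * w', mul_mem (hfour w' hw' hw'o) (hfour w' hw' hw'o), orderOf_sq_four hw'o,
        fun e' => hne (e.trans e'.symm)⟩
    · exact ⟨w * w, mul_mem hwB hwB, orderOf_sq_four hwo, e⟩
  refine Split.false_of_sq_ne (S := S) (B := B)
    ⟨hle, hidx, hz, hzB, hother, hcent, hSz, fun s hs hsB => ⟨(hout s hs hsB).1, fun e => ?_⟩,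
      hBc, hBA⟩ h (Or.inl hwB) hw2
  have h1 : w ∈ centralizer ({z} : Set G) := hSz hw
  rw [← e, mem_cent] at h1
  exact hsB (hmemB.2 ⟨hs, h1.symm⟩)

theorem Hyp.one_square (h : Hyp G) [Finite G] [Nontrivial G] (S : Sylow 2 G) {w : G}
    (hw : w ∈ (S : Subgroup G)) (hwo : orderOf w = 4)
    (honly : ∀ x ∈ (S : Subgroup G), orderOf x = 4 → x * x = w * w) :
    ∃ (K : Subgroup G) (z v : G), DData K z v := by
  classical
  have hP := S.isPGroup'
  obtain ⟨z, hzdef⟩ : ∃ z, z = w * w := ⟨_, rfl⟩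
  rw [← hzdef] at honly
  have hz : orderOf z = 2 := hzdef ▸ orderOf_sq_four hwo
  have hSz : (S : Subgroup G) ≤ centralizer ({z} : Set G) :=
    hzdef ▸ h.square_central hP hw hwo
  obtain ⟨g, hgS, hgne⟩ := h.exists_fused S hz
  obtain ⟨v, hvdef⟩ : ∃ v, v = g * z * g⁻¹ := ⟨_, rfl⟩
  rw [← hvdef] at hgS hgne
  have hv : orderOf v = 2 := by rw [hvdef, orderOf_conj_eq, hz]
  have hno : ∀ x ∈ (S : Subgroup G), orderOf x = 4 → ¬ Commute x v := by
    intro x hx hxo hc
    have hxC : g⁻¹ * x * g ∈ centralizer ({z} : Set G) :=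
      mem_cent_conj.1 (mem_cent.2 (hvdef ▸ hc))
    have ho : orderOf (g⁻¹ * x * g) = 4 := by
      have := orderOf_conj_eq g⁻¹ x
      rw [inv_inv] at this
      rw [this, hxo]
    haveI : Fact (Nat.Prime 2) := ⟨Nat.prime_two⟩
    have hzp : IsPGroup 2 (zpowers (g⁻¹ * x * g)) :=
      IsPGroup.of_card (n := 2) (by rw [Nat.card_zpowers, ho]; rfl)
    obtain ⟨c, hc', hcS⟩ := Hyp.exists_conj_into S hSz hzp (zpowers_le.2 hxC)
    have h1 := hcS _ (mem_zpowers _)
    have h2 := honly _ h1 (by rw [orderOf_conj_eq, ho])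
    apply hgne
    rw [hvdef]
    rw [show c * (g⁻¹ * x * g) * c⁻¹ * (c * (g⁻¹ * x * g) * c⁻¹) = c * (g⁻¹ * (x * x) * g) * c⁻¹
      by group, honly x hx hxo, mul_inv_eq_iff_eq_mul, ← (mem_cent.1 hc').eq] at h2
    have h3 := mul_left_cancel h2
    calc g * z * g⁻¹ = g * (g⁻¹ * z * g) * g⁻¹ := by rw [h3]
      _ = z := by group
  have hzroot : ∀ x ∈ (S : Subgroup G), 4 ∣ orderOf x → z ∈ zpowers x := by
    intro x hx h4
    obtain ⟨y, hy, hyo⟩ := exists_root h4
    exact honly y (zpowers_le.2 hx hy) hyo ▸ mul_mem hy hy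
  have hzuniq : ∀ x ∈ (S : Subgroup G), 4 ∣ orderOf x → ∀ y ∈ zpowers x, y * y = 1 →
      y = 1 ∨ y = z := by
    intro x hx h4 y hy hy2
    by_cases hy1 : y = 1
    · exact Or.inl hy1
    · exact Or.inr (eq_of_involution_cyclic inferInstance hy (hzroot x hx h4)
        (Involutions.orderOf_eq_two_iff_mul.2 ⟨hy1, hy2⟩) hz)
  have hvinv : ∀ x ∈ (S : Subgroup G), 4 ∣ orderOf x → v * x * v⁻¹ = x⁻¹ := by
    intro x hx h4
    have hx' : v * x * v⁻¹ ∈ zpowers x := h.conj_mem_two hP hx h4 hgS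
    obtain ⟨y, hy⟩ : ∃ y, y = x * (v * x * v⁻¹) := ⟨_, rfl⟩
    have hyx : y ∈ zpowers x := hy ▸ mul_mem (mem_zpowers x) hx'
    have hcom : Commute x (v * x * v⁻¹) := by
      obtain ⟨j, hj⟩ := hx'
      rw [← hj]; exact (Commute.refl x).zpow_right j
    have hyv : Commute y v := by
      refine (mul_inv_eq_iff_eq_mul.1 ?_ : v * y = y * v).symm
      rw [hy]
      calc v * (x * (v * x * v⁻¹)) * v⁻¹ = v * x * v⁻¹ * ((v * v) * x * (v * v)⁻¹) := by group
        _ = v * x * v⁻¹ * x := by rw [mul_self_eq_one hv, one_mul, inv_one, mul_one]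
        _ = x * (v * x * v⁻¹) := hcom.eq.symm
    have hy2 : y * y = 1 := by
      refine (sq_eq_one_or_four_dvd hP (zpowers_le.2 hx hyx)).resolve_right fun h4y => ?_
      obtain ⟨r, hr, hro⟩ := exists_root h4y
      refine hno r (zpowers_le.2 (zpowers_le.2 hx hyx) hr) hro ?_
      obtain ⟨j, rfl⟩ := hr
      exact hyv.zpow_left j
    rcases hzuniq x hx h4 y hyx hy2 with e | e
    · exact eq_inv_of_mul_eq_one_right (hy.symm.trans e)
    exfalso
    have hvx : v * x * v⁻¹ = x⁻¹ * z := by rw [← e, hy, inv_mul_cancel_left]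
    have hxz : Commute x z := mem_cent.1 (hSz hx)
    have hsq : (x * v) * (x * v) = z := by
      calc x * v * (x * v) = x * (v * x * v⁻¹) * (v * v) := by group
        _ = z := by rw [hvx, mul_self_eq_one hv, mul_one, mul_inv_cancel_left]
    have hval : x * (x * v) * x⁻¹ = z * (x * x) * (x * v) := by
      calc x * (x * v) * x⁻¹ = x * x * (v * x * v⁻¹)⁻¹ * v := by group
        _ = x * x * (z * x) * v := by
          rw [hvx, mul_inv_rev, inv_inv, inv_eq_self_of_involution hz]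
        _ = (x * x * z) * (x * v) := by group
        _ = z * (x * x) * (x * v) := by rw [(hxz.mul_left hxz).eq]
    have hxx : x * x = z := by
      rcases h.conj_four hP (mul_mem hx hgS) (orderOf_eq_four hz hsq) hx with e1 | e1 <;>
        rw [hval] at e1
      · rw [← inv_eq_of_mul_eq_one_right (mul_eq_right.1 e1), inv_eq_self_of_involution hz]
      · exfalso
        have h1 : z * (x * x) * z = 1 := by
          rw [← hsq, show x * v * (x * v) * (x * x) * (x * v * (x * v)) =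
            (x * v * (x * v) * (x * x) * (x * v)) * (x * v) by group, hsq, e1, inv_mul_cancel]
        rw [(hxz.mul_left hxz).symm.eq, mul_assoc, mul_self_eq_one hz, mul_one] at h1
        have := orderOf_dvd_of_pow_eq_one (show x ^ 2 = 1 by rw [sq]; exact h1)
        have := Nat.le_of_dvd two_pos (h4.trans this)
        omega
    refine hno x hx (orderOf_eq_four hz hxx) ?_
    rw [← hxx, inv_mul_cancel_left] at hvx
    exact (mul_inv_eq_iff_eq_mul.1 hvx).symm
  -- the elements of order at least four commute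
  have hhalf : ∀ x ∈ (S : Subgroup G), ∀ y ∈ (S : Subgroup G), 4 ∣ orderOf x → 4 ∣ orderOf y →
      x * y * (x * y) = 1 → x * y⁻¹ * (x * y⁻¹) = 1 →
      y * y = z ∧ y * x * y⁻¹ = x⁻¹ * (y * y)⁻¹ := by
    intro x hx y hy hx4 hy4 e1 e2
    have a1 : y * x * y = x⁻¹ := eq_inv_of_mul_eq_one_right (by rw [← e1]; group)
    have a2 : y⁻¹ * x * y⁻¹ = x⁻¹ := eq_inv_of_mul_eq_one_right (by rw [← e2]; group)
    have a3 : y * x * y⁻¹ = x⁻¹ * (y * y)⁻¹ := by rw [← a1]; group
    have a4 : (y * y)⁻¹ ∈ zpowers x := by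
      rw [show (y * y)⁻¹ = x * (y * x * y⁻¹) by rw [a3]; group]
      exact mul_mem (mem_zpowers x) (h.conj_mem_two hP hx hx4 hy)
    have a5 : Commute x (y * y) := by
      obtain ⟨j, hj⟩ := inv_mem a4
      rw [inv_inv] at hj
      rw [← hj]; exact (Commute.refl x).zpow_right j
    have a6 : y * y * x * (y * y) = x := by
      calc y * y * x * (y * y) = y * (y * x * y) * y := by group
        _ = y * x⁻¹ * y := by rw [a1]
        _ = (y⁻¹ * x * y⁻¹)⁻¹ := by group
        _ = x := by rw [a2, inv_inv]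
    rw [← a5.eq, mul_assoc, mul_eq_left] at a6
    have hyo : orderOf y = 4 := by
      refine Nat.dvd_antisymm (orderOf_dvd_of_pow_eq_one ?_) hy4
      rw [show (4 : ℕ) = 2 * 2 from rfl, pow_mul, sq y, sq, a6]
    exact ⟨honly y hy hyo, a3⟩
  have hgen : ∀ x ∈ (S : Subgroup G), ∀ y ∈ (S : Subgroup G), 4 ∣ orderOf x → 4 ∣ orderOf y →
      Commute x y := by
    intro x hx y hy hx4 hy4
    have hcase : ∀ y ∈ (S : Subgroup G), 4 ∣ orderOf y → 4 ∣ orderOf (x * y) → Commute x y := by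
      intro y hy hy4 hxy
      have e := hvinv _ (mul_mem hx hy) hxy
      rw [show v * (x * y) * v⁻¹ = (v * x * v⁻¹) * (v * y * v⁻¹) by group, hvinv x hx hx4,
        hvinv y hy hy4, mul_inv_rev] at e
      calc x * y = (y⁻¹ * x⁻¹)⁻¹ := by group
        _ = (x⁻¹ * y⁻¹)⁻¹ := by rw [e]
        _ = y * x := by group
    rcases sq_eq_one_or_four_dvd hP (mul_mem hx hy) with e1 | e1
    swap
    · exact hcase y hy hy4 e1
    rcases sq_eq_one_or_four_dvd hP (mul_mem hx (inv_mem hy)) with e2 | e2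
    swap
    · simpa using (hcase y⁻¹ (inv_mem hy) (by rwa [orderOf_inv]) e2).inv_right
    obtain ⟨hy2, hyx⟩ := hhalf x hx y hy hx4 hy4 e1 e2
    obtain ⟨hx2, -⟩ := hhalf y hy x hx hy4 hx4
      (by
        calc y * x * (y * x) = x⁻¹ * (x * y * (x * y)) * x := by group
          _ = 1 := by rw [e1]; group)
      (by
        calc y * x⁻¹ * (y * x⁻¹) = (x * y⁻¹ * (x * y⁻¹))⁻¹ := by group
          _ = 1 := by rw [e2, inv_one])
    refine (mul_inv_eq_iff_eq_mul.1 ?_ : y * x = x * y).symm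
    rw [hyx, hy2, inv_eq_self_of_involution hz, ← hx2, inv_mul_cancel_left]
  obtain ⟨B, hB⟩ : ∃ B, B = closure {x : G | x ∈ (S : Subgroup G) ∧ 4 ∣ orderOf x} := ⟨_, rfl⟩
  have hle : B ≤ (S : Subgroup G) := hB ▸ (closure_le _).2 fun x hx => hx.1
  have hgenB : ∀ x ∈ (S : Subgroup G), 4 ∣ orderOf x → x ∈ B := fun x hx h4 =>
    hB ▸ subset_closure ⟨hx, h4⟩
  have hBc : ∀ a ∈ B, ∀ b ∈ B, Commute a b := by
    have h1 : ∀ x ∈ (S : Subgroup G), 4 ∣ orderOf x → B ≤ centralizer ({x} : Set G) :=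
      fun x hx h4 => hB ▸ (closure_le _).2 fun y hy => mem_cent.2 (hgen y hy.1 x hx hy.2 h4)
    intro a ha b hb
    have h2 : B ≤ centralizer ({a} : Set G) := by
      refine hB ▸ (closure_le _).2 fun y hy => mem_cent.2 ?_
      exact (mem_cent.1 (h1 y hy.1 hy.2 ha)).symm
    exact (mem_cent.1 (h2 hb)).symm
  have hwB : w ∈ B := hgenB w hw (hwo ▸ dvd_rfl)
  have hzB : z ∈ B := hzdef ▸ mul_mem hwB hwB
  have hvB : v ∉ B := fun hm => hno w hw hwo (hBc w hwB v hm)
  have hsq : ∀ s ∈ (S : Subgroup G), s ∉ B → s * s = 1 := fun s hs hsB =>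
    (sq_eq_one_or_four_dvd hP hs).resolve_right fun h4 => hsB (hgenB s hs h4)
  have hinvB : ∀ s ∈ (S : Subgroup G), s ∉ B → ∀ x ∈ B, s * x * s⁻¹ = x⁻¹ := by
    intro s hs hsB x hx
    have h1 := hsq _ (mul_mem hs (hle hx))
      fun hm => hsB ((Subgroup.mul_mem_cancel_right B hx).1 hm)
    refine eq_inv_of_mul_eq_one_left ?_
    rw [inv_eq_self_of_sq (hsq s hs hsB), ← h1]
    group
  have hw2 : w * w ≠ 1 := hzdef ▸ ne_one_of_involution hz
  have hnw : ∀ s ∈ (S : Subgroup G), s ∉ B → ¬ Commute s w := fun s hs hsB hc => hw2 (by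
    have e := hinvB s hs hsB w hwB
    rw [hc.eq, mul_inv_cancel_right] at e
    exact eq_inv_iff_mul_eq_one.1 e)
  have hidx : B.relIndex (S : Subgroup G) = 2 := by
    refine index_eq_two_iff.2 ⟨⟨v, hgS⟩, fun b => ?_⟩
    simp only [mem_subgroupOf, coe_mul]
    by_cases hb : (b : G) ∈ B
    · exact Or.inr ⟨hb, fun hm => hvB ((Subgroup.mul_mem_cancel_left B hb).1 hm)⟩
    · refine Or.inl ⟨by_contra fun hm => hnw _ (mul_mem b.2 hgS) hm ?_, hb⟩
      refine mul_inv_eq_iff_eq_mul.1 ?_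
      rw [show (b : G) * v * w * ((b : G) * v)⁻¹ = b * (v * w * v⁻¹) * (b : G)⁻¹ by group,
        hinvB v hgS hvB w hwB, hinvB b b.2 hb _ (inv_mem hwB), inv_inv]
  have hroot : ∀ x ∈ (S : Subgroup G), 4 ∣ orderOf x → ∀ a ∈ oddCent z, Commute x a :=
    fun x hx h4 a ha => by
      obtain ⟨k, hk⟩ := exists_pow_orderOf hP hx
      exact h.root_commute hz (hzroot x hx h4) hk ha
  have hBA : ∀ b ∈ B, ∀ a ∈ oddCent z, Commute b a := by
    intro b hb a ha
    have : B ≤ centralizer ({a} : Set G) :=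
      hB ▸ (closure_le _).2 fun x hx => mem_cent.2 (hroot x hx.1 hx.2 a ha)
    exact mem_cent.1 (this hb)
  by_cases hother : ∃ t ∈ B, orderOf t = 2 ∧ t ≠ z
  · exfalso
    have hcent : ∀ t ∈ B, orderOf t = 2 →
        centralizer ({t} : Set G) = centralizer ({z} : Set G) := by
      intro t ht ht2
      have htt := mul_self_eq_one ht2
      by_cases hA : oddCent z = ⊥
      swap
      · obtain ⟨a, ha, ha1⟩ := exists_ne_one_of_ne_bot hA
        exact h.cent_eq_of_fix hz ht2 ha ha1 (hBA t ht a ha)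
      have hSt : (S : Subgroup G) ≤ centralizer ({t} : Set G) := fun s hs => by
        by_cases hsB : s ∈ B
        · exact mem_cent.2 (hBc s hsB t ht)
        · refine mem_cent.2 (mul_inv_eq_iff_eq_mul.1 ?_)
          rw [hinvB s hs hsB t ht, inv_eq_self_of_sq htt]
      have hAt : oddCent t = ⊥ := by
        rw [eq_bot_iff]
        intro a ha
        rw [mem_bot]
        have ha' := (h.mem_oddCent ht2).1 ha
        have hvw : v * w ∉ B := fun hm => hvB ((Subgroup.mul_mem_cancel_right B hwB).1 hm)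
        have hact : ∀ s ∈ (S : Subgroup G), s ∉ B →
            s * a * s⁻¹ = a ∨ s * a * s⁻¹ = a⁻¹ := by
          intro s hs hsB
          rcases h.cent_or_inv ht2 (Involutions.orderOf_eq_two_iff_mul.2
            ⟨fun (e1 : s = 1) => hsB (e1.symm ▸ B.one_mem), hsq s hs hsB⟩) (hSt hs) with e | e
          · exact Or.inl (by rw [(e a ha).eq, mul_inv_cancel_right])
          · exact Or.inr (e a ha)
        have hwa : w * a * w⁻¹ = a ∨ w * a * w⁻¹ = a⁻¹ := by
          have e : w * a * w⁻¹ = v * (v * w * a * (v * w)⁻¹) * v⁻¹ := by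
            calc w * a * w⁻¹ = (v * v) * w * a * w⁻¹ * (v * v)⁻¹ := by
                  rw [mul_self_eq_one hv, one_mul, inv_one, mul_one]
              _ = v * (v * w * a * (v * w)⁻¹) * v⁻¹ := by group
          rw [e]
          rcases hact _ (mul_mem hgS hw) hvw with e1 | e1 <;> rw [e1]
          · exact hact v hgS hvB
          · rcases hact v hgS hvB with e2 | e2
            · right
              rw [show v * a⁻¹ * v⁻¹ = (v * a * v⁻¹)⁻¹ by group, e2]
            · left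
              rw [show v * a⁻¹ * v⁻¹ = (v * a * v⁻¹)⁻¹ by group, e2, inv_inv]
        have hza : Commute z a := by
          refine mul_inv_eq_iff_eq_mul.1 ?_
          rw [hzdef, show w * w * a * (w * w)⁻¹ = w * (w * a * w⁻¹) * w⁻¹ by group]
          rcases hwa with e | e <;> rw [e]
          · exact e
          · rw [show w * a⁻¹ * w⁻¹ = (w * a * w⁻¹)⁻¹ by group, e, inv_inv]
        have := (h.mem_oddCent hz).2 ⟨mem_cent.2 hza.symm, ha'.2⟩
        rwa [hA, mem_bot] at this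
      have key : ∀ u : G, orderOf u = 2 → (S : Subgroup G) ≤ centralizer ({u} : Set G) →
          oddCent u = ⊥ → centralizer ({u} : Set G) = (S : Subgroup G) := by
        intro u hu hSu hAu
        refine le_antisymm (fun c hc => ?_) hSu
        obtain ⟨a, ha, s, hs, rfl⟩ := h.exists_mul S hu hSu hc
        rw [hAu, mem_bot] at ha
        rw [ha, one_mul]; exact hs
      rw [key t ht2 hSt hAt, key z hz hSz hA]
    have hsplit : Split S B z := ⟨hle, hidx, hz, hzB, hother, hcent, hSz, fun s hs hsB =>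
      ⟨hsq s hs hsB, fun e => hnw s hs hsB (by
        have h1 : w ∈ centralizer ({z} : Set G) := hSz hw
        rw [← e, mem_cent] at h1
        exact h1.symm)⟩, hBc, hBA⟩
    refine hsplit.not_fused (g := g⁻¹) hgS hvB ?_
    rw [hvdef, show g⁻¹ * (g * z * g⁻¹) * g⁻¹⁻¹ = z by group]
    exact hzB
  push Not at hother
  refine ⟨_, z, v, h.ddata_of hz hSz hle hidx hzB hv hgS hvB hBc hBA (hinvB v hgS hvB) ?_ ?_⟩
  · rcases h.cent_or_inv hz hv (hSz hgS) with hc | hc
    · intro a ha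
      by_cases ha1 : a = 1
      · rw [ha1, mul_one, mul_inv_cancel, inv_one]
      · exfalso
        have e := h.cent_eq_of_fix hz hv ha ha1 (hc a ha)
        have h1 : w ∈ centralizer ({z} : Set G) := hSz hw
        rw [← e, mem_cent] at h1
        exact hno w hw hwo h1
    · exact hc
  · intro b hb hb2
    by_cases hb1 : b = 1
    · exact Or.inl hb1
    · exact Or.inr (hother b hb (Involutions.orderOf_eq_two_iff_mul.2 ⟨hb1, hb2⟩))

theorem Hyp.reduce (h : Hyp G) [Finite G] [Nontrivial G] :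
    (∃ (F : Type) (_ : Field F) (_ : Fintype F), CharP F 2 ∧ 3 < Fintype.card F ∧
      Nonempty (G ≃* Matrix.SpecialLinearGroup (Fin 2) F)) ∨
    ∃ (K : Subgroup G) (z v : G), DData K z v := by
  obtain ⟨S⟩ := (inferInstance : Nonempty (Sylow 2 G))
  by_cases hE : ∀ x ∈ (S : Subgroup G), x * x = 1
  · exact h.elementary S hE
  push Not at hE
  obtain ⟨x, hx, hx2⟩ := hE
  obtain ⟨w, hwx, hwo⟩ :=
    exists_root ((sq_eq_one_or_four_dvd S.isPGroup' hx).resolve_left hx2)
  have hw : w ∈ (S : Subgroup G) := zpowers_le.2 hx hwx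
  by_cases hM : ∃ y ∈ (S : Subgroup G), orderOf y = 4 ∧ w * w ≠ y * y
  · obtain ⟨y, hy, hyo, hne⟩ := hM
    exact (h.two_squares S hw hwo hy hyo hne).elim
  · push Not at hM
    exact Or.inr (h.one_square S hw hwo fun y hy hyo => (hM y hy hyo).symm)

end CfsgLib.EvenCyclicNorm
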