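import Cfsg.Agent.Lib.EvenCyclicNorm.TwoGroup
import Cfsg.Agent.Lib.Transfer.Basic
import Cfsg.Agent.Lib.StrongEmbedding.PSLTwo
import Cfsg.Agent.S2202

/-!
# Abelian centralisers of involutions; splitting a Sylow 2-subgroup
-/

set_option autoImplicit false
set_option linter.style.haveILetI false

namespace CfsgLib.EvenCyclicNorm

open Subgroup CfsgLib.Involutions

universe u

variable {G : Type u} [Group G]

theorem sl_two_sq_eq_one {F : Type*} [Field F] [CharP F 2]
    {t X : Matrix.SpecialLinearGroup (Fin 2) F} (ht2 : t * t = 1) (ht1 : t ≠ 1)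
    (hc : Commute X t) : X * X = 1 := by
  obtain ⟨a, b, c, d, ha, hb, hcc, hd⟩ :
      ∃ a b c d, t 0 0 = a ∧ t 0 1 = b ∧ t 1 0 = c ∧ t 1 1 = d := ⟨_, _, _, _, rfl, rfl, rfl, rfl⟩
  obtain ⟨p, q, r, s, hp, hq, hr, hs⟩ :
      ∃ p q r s, X 0 0 = p ∧ X 0 1 = q ∧ X 1 0 = r ∧ X 1 1 = s := ⟨_, _, _, _, rfl, rfl, rfl, rfl⟩
  have e : ∀ i j, (t * t : Matrix.SpecialLinearGroup (Fin 2) F) i j =
      (1 : Matrix.SpecialLinearGroup (Fin 2) F) i j := fun i j => by rw [ht2]
  have e00 := e 0 0
  have e01 := e 0 1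
  have e10 := e 1 0
  have e11 := e 1 1
  have f : ∀ i j, (X * t : Matrix.SpecialLinearGroup (Fin 2) F) i j =
      (t * X : Matrix.SpecialLinearGroup (Fin 2) F) i j := fun i j => by rw [hc.eq]
  have f00 := f 0 0
  have f01 := f 0 1
  have f10 := f 1 0
  simp only [Matrix.SpecialLinearGroup.coe_mul, Matrix.SpecialLinearGroup.coe_one,
    Matrix.mul_apply, Fin.sum_univ_two, Matrix.one_apply_eq, ha, hb, hcc, hd, hp, hq, hr, hs,
    ne_eq, Fin.zero_eq_one_iff, Nat.reduceEqDiff, not_false_eq_true, Matrix.one_apply_ne,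
    one_ne_zero, zero_ne_one] at e00 e01 e10 e11 f00 f01 f10
  have dett : a * d - b * c = 1 := by
    have := t.det_coe
    rwa [Matrix.det_fin_two, ha, hb, hcc, hd] at this
  have detX : p * s - q * r = 1 := by
    have := X.det_coe
    rwa [Matrix.det_fin_two, hp, hq, hr, hs] at this
  have h2 : (2 : F) = 0 := CharTwo.two_eq_zero
  have htr : a + d = 0 := by
    by_contra hne
    have hb0 : b = 0 := by
      have : b * (a + d) = 0 := by linear_combination e01
      exact (mul_eq_zero.1 this).resolve_right hne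
    have hc0 : c = 0 := by
      have : c * (a + d) = 0 := by linear_combination e10
      exact (mul_eq_zero.1 this).resolve_right hne
    have ha1 : a = 1 := by
      have : (a - 1) * (a - 1) = 0 := by
        linear_combination e00 + (1 - a) * h2 - c * hb0
      have := mul_self_eq_zero.1 this
      linear_combination this
    have hd1 : d = 1 := by linear_combination dett - d * ha1 + c * hb0
    exact hne (by linear_combination ha1 + hd1 + h2)
  have had : d = a := by linear_combination htr - a * h2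
  have hps : p + s = 0 := by
    by_contra hne
    have hb0 : b = 0 := by
      have : b * (p + s) = 0 := by
        linear_combination f01 + b * s * h2 - q * had
      exact (mul_eq_zero.1 this).resolve_right hne
    have hc0 : c = 0 := by
      have : c * (p + s) = 0 := by
        linear_combination f10 - r * a * h2 + c * p * h2 - r * a * 0 + r * had + r * a * h2
      exact (mul_eq_zero.1 this).resolve_right hne
    have ha1 : a = 1 := by
      have : (a - 1) * (a - 1) = 0 := by
        linear_combination e00 + (1 - a) * h2 - c * hb0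
      have := mul_self_eq_zero.1 this
      linear_combination this
    apply ht1
    ext i j
    fin_cases i <;> fin_cases j <;> simp [ha, hb, hcc, hd, hb0, hc0, ha1, had]
  have hsp : s = p := by linear_combination hps - p * h2
  ext i j
  fin_cases i <;> fin_cases j <;>
    simp [Matrix.mul_apply, Fin.sum_univ_two, hp, hq, hr, hs, hsp]
  · linear_combination detX - p * hsp + q * r * h2
  · linear_combination q * p * h2
  · linear_combination r * p * h2
  · linear_combination detX - p * hsp + q * r * h2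

theorem eq_of_involution_cyclic [Finite G] {P : Subgroup G} (hP : IsCyclic P) {a b : G}
    (ha : a ∈ P) (hb : b ∈ P) (ha2 : orderOf a = 2) (hb2 : orderOf b = 2) : a = b := by
  classical
  by_contra hne
  haveI := hP
  haveI := Fintype.ofFinite P
  have hle := IsCyclic.card_pow_eq_one_le (α := P) (n := 2) two_pos
  have hsub : ({1, ⟨a, ha⟩, ⟨b, hb⟩} : Finset P) ⊆
      Finset.univ.filter fun x : P => x ^ 2 = 1 := by
    intro x hx
    simp only [Finset.mem_insert, Finset.mem_singleton] at hx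
    refine Finset.mem_filter.2 ⟨Finset.mem_univ x, ?_⟩
    rcases hx with rfl | rfl | rfl
    · exact one_pow 2
    · exact Subtype.ext (by rw [Subgroup.coe_pow, sq]; exact mul_self_eq_one ha2)
    · exact Subtype.ext (by rw [Subgroup.coe_pow, sq]; exact mul_self_eq_one hb2)
  have h3 : ({1, ⟨a, ha⟩, ⟨b, hb⟩} : Finset P).card = 3 := by
    rw [Finset.card_eq_three]
    exact ⟨_, _, _, fun h => ne_one_of_involution ha2 (congrArg Subtype.val h).symm,
      fun h => ne_one_of_involution hb2 (congrArg Subtype.val h).symm,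
      fun h => hne (congrArg Subtype.val h), rfl⟩
  have := (Finset.card_le_card hsub).trans hle
  omega

/-- If every involution has an abelian centraliser, the group is `SL(2, 2^f)`. -/
theorem Hyp.sl_of_abelian (h : Hyp G) [Finite G] [Nontrivial G]
    (hab : ∀ t : G, orderOf t = 2 → IsMulCommutative (centralizer ({t} : Set G))) :
    ∃ (F : Type) (_ : Field F) (_ : Fintype F), CharP F 2 ∧ 3 < Fintype.card F ∧
      Nonempty (G ≃* Matrix.SpecialLinearGroup (Fin 2) F) := by
  classical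
  haveI : Fact (Nat.Prime 2) := ⟨Nat.prime_two⟩
  obtain ⟨z₀, hz₀⟩ := h.exists_involution
  obtain ⟨S⟩ := (inferInstance : Nonempty (Sylow 2 G))
  obtain ⟨g₀, hg₀⟩ := exists_conj_sylow S (x := z₀) (k := 1) (by rw [hz₀, pow_one])
  obtain ⟨z, hzS, hz⟩ : ∃ z ∈ (S : Subgroup G), orderOf z = 2 :=
    ⟨_, hg₀, by rw [orderOf_conj_eq, hz₀]⟩
  rcases Cfsg.Agent.S2202.result h.even_card hab with hc | hn | ⟨F, iF, iT, A, iA, iAf, hF, -, ⟨e⟩⟩
  · obtain ⟨g, hg, hne⟩ := h.exists_fused S hz
    exact absurd (eq_of_involution_cyclic (hc S) hg hzS (by rw [orderOf_conj_eq, hz]) hz) hne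
  · have hbot := h.solv _ (hn S) (by
      haveI : Group.IsNilpotent (S : Subgroup G) := S.isPGroup'.isNilpotent
      infer_instance)
    rw [hbot, mem_bot] at hzS
    exact absurd hzS (ne_one_of_involution hz)
  · obtain ⟨f, hf⟩ : ∃ f : G →* Matrix.SpecialLinearGroup (Fin 2) F,
        f = (MonoidHom.fst (Matrix.SpecialLinearGroup (Fin 2) F) A).comp e.toMonoidHom :=
      ⟨_, rfl⟩
    have hker : f.ker = ⊥ := by
      refine h.solv _ inferInstance (Group.isSolvable_of_comm fun a b => Subtype.ext (e.injective ?_))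
      have ha : f a = 1 := a.2
      have hb : f b = 1 := b.2
      simp only [hf] at ha hb
      simp only [MonoidHom.coe_comp, MulEquiv.coe_toMonoidHom, Function.comp_apply,
        MonoidHom.coe_fst] at ha hb
      simp only [coe_mul, map_mul]
      refine Prod.ext (by simp [ha, hb]) ?_
      simp only [Prod.snd_mul]
      exact mul_comm _ _
    have hbij : Function.Bijective f := ⟨(MonoidHom.ker_eq_bot_iff f).1 hker, fun y =>
      ⟨e.symm (y, 1), by rw [hf]; simp⟩⟩
    refine ⟨F, iF, iT, hF, ?_, ⟨MulEquiv.ofBijective f hbij⟩⟩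
    have h1 := Fintype.one_lt_card (α := F)
    obtain ⟨j, -, hj⟩ := FiniteField.card F 2
    by_contra hle
    have h2 : Fintype.card F = 2 := by
      rcases (show Fintype.card F = 2 ∨ Fintype.card F = 3 by omega) with h2 | h2
      · exact h2
      · rw [h2] at hj
        have : Even (3 : ℕ) := hj ▸ (Nat.even_pow' j.pos.ne').2 even_two
        exact absurd this (by decide)
    refine h.card_ne 1 1 ?_
    rw [Nat.card_congr (MulEquiv.ofBijective f hbij).toEquiv,
      CfsgLib.StrongEmbedding.PSLTwo.card_sl_two, h2]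
    norm_num

theorem exists_psl_of_sl {F : Type} [Field F] [Fintype F] [CharP F 2]
    (e : G ≃* Matrix.SpecialLinearGroup (Fin 2) F) :
    Nonempty (G ≃* Matrix.ProjectiveSpecialLinearGroup (Fin 2) F) := by
  classical
  exact
  ⟨e.trans ((QuotientGroup.quotientMulEquivOfEq
    CfsgLib.StrongEmbedding.PSLTwo.center_sl_two_eq_bot).trans QuotientGroup.quotientBot).symm⟩

theorem false_of_sl_iso {F : Type} [Field F] [CharP F 2]
    (e : G ≃* Matrix.SpecialLinearGroup (Fin 2) F) {z x : G} (hz : orderOf z = 2)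
    (hxz : Commute x z) (hx : x * x ≠ 1) : False := by
  refine hx (e.injective ?_)
  rw [map_mul, map_one]
  refine sl_two_sq_eq_one (t := e z) ?_ ?_ ?_
  · rw [← map_mul, mul_self_eq_one hz, map_one]
  · exact fun e1 => ne_one_of_involution hz (e.injective (by rw [e1, map_one]))
  · exact hxz.map e.toMonoidHom

/-- Thompson's transfer lemma, simultaneously for all the unfused involutions. -/
theorem exists_index_two [Finite G] (P : Sylow 2 G) (Q : Subgroup G)
    (hQi : Q.relIndex (P : Subgroup G) = 2) {u₀ : G} (hu₀ : u₀ ∈ (P : Subgroup G))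
    (hu₀Q : u₀ ∉ Q)
    (hall : ∀ u ∈ (P : Subgroup G), u ∉ Q → u ^ 2 = 1 ∧
      ∀ g : G, g * u * g⁻¹ ∈ (P : Subgroup G) → g * u * g⁻¹ ∉ Q) :
    ∃ M : Subgroup G, M.Normal ∧ M.index = 2 ∧
      ∀ u ∈ (P : Subgroup G), (u ∈ M ↔ u ∈ Q) := by
  classical
  haveI : Fact (Nat.Prime 2) := ⟨Nat.prime_two⟩
  let Q' := Q.subgroupOf (P : Subgroup G)
  have hi : Q'.index = 2 := hQi
  let φ : (P : Subgroup G) →* ℤˣ :=
    { toFun := fun x => if x ∈ Q' then 1 else -1
      map_one' := if_pos Q'.one_mem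
      map_mul' := fun x y => by
        have := mul_mem_iff_of_index_two hi (a := x) (b := y)
        by_cases hx : x ∈ Q' <;> by_cases hy : y ∈ Q' <;> simp [hx, hy, this] }
  have hP : Odd (P : Subgroup G).index := by
    rw [← Nat.not_even_iff_odd, even_iff_two_dvd]; exact P.not_dvd_index
  have hv : ∀ u ∈ (P : Subgroup G), u ∉ Q → φ.transfer u = -1 := fun u hu huQ => by
    refine CfsgLib.Transfer.transfer_involution φ (hall u hu huQ).1 (by simp) hP fun g hg => ?_
    have := (hall u hu huQ).2 g⁻¹ (by simpa using hg)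
    exact if_neg (by simpa [Q', mem_subgroupOf] using this)
  have hi2 : φ.transfer.ker.index = 2 := by
    have hd : φ.transfer.ker.index ∣ 2 := by
      rw [index_ker]
      exact (card_subgroup_dvd_card _).trans (by simp [Nat.card_eq_fintype_card])
    refine (Nat.prime_two.eq_one_or_self_of_dvd _ hd).resolve_left fun h1 => ?_
    have : u₀ ∈ φ.transfer.ker := index_eq_one.mp h1 ▸ mem_top u₀
    simp [MonoidHom.mem_ker, hv u₀ hu₀ hu₀Q] at this
  refine ⟨φ.transfer.ker, inferInstance, hi2, fun u hu => ?_⟩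
  have hout : ∀ v ∈ (P : Subgroup G), v ∉ Q → v ∉ φ.transfer.ker := fun v hv' hvQ => by
    simp [MonoidHom.mem_ker, hv v hv' hvQ]
  refine ⟨fun hm => by_contra fun hQ => hout u hu hQ hm, fun hQ => ?_⟩
  by_contra hm
  have h1 : u₀ * u ∈ φ.transfer.ker :=
    (mul_mem_iff_of_index_two hi2).2 (iff_of_false (hout u₀ hu₀ hu₀Q) hm)
  exact hout _ (mul_mem hu₀ hu) (fun h2 => hu₀Q ((Subgroup.mul_mem_cancel_right Q hQ).1 h2)) h1

/-- An abelian subgroup of index two of a Sylow 2-subgroup, all of whose involutions share their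
centraliser, different from that of every element outside. -/
structure Split (S : Sylow 2 G) (B : Subgroup G) (z : G) : Prop where
  le : B ≤ (S : Subgroup G)
  idx : B.relIndex (S : Subgroup G) = 2
  hz : orderOf z = 2
  hzB : z ∈ B
  other : ∃ t ∈ B, orderOf t = 2 ∧ t ≠ z
  cent : ∀ t ∈ B, orderOf t = 2 → centralizer ({t} : Set G) = centralizer ({z} : Set G)
  hS : (S : Subgroup G) ≤ centralizer ({z} : Set G)
  out : ∀ v ∈ (S : Subgroup G), v ∉ B →
    v * v = 1 ∧ centralizer ({v} : Set G) ≠ centralizer ({z} : Set G)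
  comm : ∀ a ∈ B, ∀ b ∈ B, Commute a b
  commA : ∀ b ∈ B, ∀ a ∈ oddCent z, Commute b a

namespace Split

variable {S : Sylow 2 G} {B : Subgroup G} {z : G}

theorem not_fused [Finite G] (hs : Split S B z) {v g : G} (hv : v ∈ (S : Subgroup G))
    (hvB : v ∉ B) : g * v * g⁻¹ ∉ B := fun hgB => by
  haveI : Fact (Nat.Prime 2) := ⟨Nat.prime_two⟩
  obtain ⟨hv2, hne⟩ := hs.out v hv hvB
  have hvo : orderOf v = 2 :=
    Involutions.orderOf_eq_two_iff_mul.2 ⟨fun e => hvB (e ▸ B.one_mem), hv2⟩
  have hgv : orderOf (g * v * g⁻¹) = 2 := by rw [orderOf_conj_eq, hvo]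
  have hCgv := hs.cent _ hgB hgv
  set P := ((S : Subgroup G) ⊓ centralizer ({v} : Set G)).map (MulAut.conj g).toMonoidHom with hP
  have hPp : IsPGroup 2 P := (S.isPGroup'.to_le inf_le_left).map _
  have hPC : P ≤ centralizer ({z} : Set G) := by
    rw [← hCgv, hP]
    rintro _ ⟨x, hx, rfl⟩
    rw [mem_cent_conj]
    simpa [mul_assoc] using hx.2
  obtain ⟨c, hc, hcP⟩ := Hyp.exists_conj_into S hs.hS hPp hPC
  have hmap : ∀ x ∈ (S : Subgroup G), x ∈ centralizer ({v} : Set G) →
      c * g * x * (c * g)⁻¹ ∈ (S : Subgroup G) := fun x hx hxv => by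
    have := hcP (g * x * g⁻¹) ⟨x, ⟨hx, hxv⟩, rfl⟩
    rwa [show c * g * x * (c * g)⁻¹ = c * (g * x * g⁻¹) * c⁻¹ by group]
  obtain ⟨t, htB, ht, htz⟩ := hs.other
  have hvC : ∀ s ∈ B, orderOf s = 2 → s ∈ centralizer ({v} : Set G) := fun s hsB hso => by
    have := hs.hS hv
    rw [← hs.cent s hsB hso] at this
    exact mem_cent.2 (mem_cent.1 this).symm
  -- one of `z`, `t`, `z t` is sent into `B`
  obtain ⟨t', ht'B, ht', hh⟩ : ∃ t' ∈ B, orderOf t' = 2 ∧ c * g * t' * (c * g)⁻¹ ∈ B := by
    have hzt : orderOf (z * t) = 2 := by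
      have hc : Commute z t := hs.comm z hs.hzB t htB
      refine Involutions.orderOf_eq_two_iff_mul.2 ⟨fun e => htz ?_, ?_⟩
      · exact (inv_eq_of_mul_eq_one_right e).symm.trans (inv_eq_self_of_involution hs.hz)
      · rw [hc.symm.mul_mul_mul_comm, mul_self_eq_one hs.hz, mul_self_eq_one ht, one_mul]
    have h1 := hmap z (hs.le hs.hzB) (hvC z hs.hzB hs.hz)
    have h2 := hmap t (hs.le htB) (hvC t htB ht)
    by_cases hB1 : c * g * z * (c * g)⁻¹ ∈ B
    · exact ⟨z, hs.hzB, hs.hz, hB1⟩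
    by_cases hB2 : c * g * t * (c * g)⁻¹ ∈ B
    · exact ⟨t, htB, ht, hB2⟩
    refine ⟨z * t, mul_mem hs.hzB htB, hzt, ?_⟩
    have := (mul_mem_iff_of_index_two (show (B.subgroupOf (S : Subgroup G)).index = 2 from hs.idx)
      (a := ⟨_, h1⟩) (b := ⟨_, h2⟩)).2 (iff_of_false hB1 hB2)
    rw [show c * g * (z * t) * (c * g)⁻¹ =
      c * g * z * (c * g)⁻¹ * (c * g * t * (c * g)⁻¹) by group]
    exact this
  refine hne ?_
  rw [← hs.cent t' ht'B ht']
  have e1 : centralizer ({c * g * t' * (c * g)⁻¹} : Set G) = centralizer ({z} : Set G) :=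
    hs.cent _ hh (by rw [orderOf_conj_eq, ht'])
  have e2 : c * g * v * (c * g)⁻¹ = g * v * g⁻¹ := by
    rw [← hCgv] at hc
    rw [show c * g * v * (c * g)⁻¹ = c * (g * v * g⁻¹) * c⁻¹ by group, (mem_cent.1 hc).eq,
      mul_inv_cancel_right]
  ext x
  have h3 : c * g * x * (c * g)⁻¹ ∈ centralizer ({c * g * t' * (c * g)⁻¹} : Set G) ↔
      c * g * x * (c * g)⁻¹ ∈ centralizer ({c * g * v * (c * g)⁻¹} : Set G) := by
    rw [e1, e2, hCgv]
  rw [mem_cent_conj, mem_cent_conj,
    show (c * g)⁻¹ * (c * g * x * (c * g)⁻¹) * (c * g) = x by group] at h3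
  exact h3.symm

/-- A split group has a normal subgroup `SL(2, 2^f)` of index two, which is absurd as soon as `B`
or `oddCent z` has exponent greater than two. -/
theorem false_of_sq_ne (hs : Split S B z) [Finite G] (h : Hyp G) {x : G}
    (hx : x ∈ B ∨ x ∈ oddCent z) (hx2 : x * x ≠ 1) : False := by
  classical
  haveI : Fact (Nat.Prime 2) := ⟨Nat.prime_two⟩
  obtain ⟨u₀, hu₀, hu₀B⟩ : ∃ u ∈ (S : Subgroup G), u ∉ B := by
    by_contra! hall
    have := hs.idx
    rw [relIndex_eq_one.2 hall] at this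
    omega
  obtain ⟨M, hMn, hMi, hMS⟩ := exists_index_two S B hs.idx hu₀ hu₀B fun u hu huB =>
    ⟨by rw [sq]; exact (hs.out u hu huB).1, fun g _ => hs.not_fused hu huB⟩
  have hBM : B ≤ M := fun b hb => (hMS b (hs.le hb)).2 hb
  have hAM : oddCent z ≤ M := fun a ha => by
    obtain ⟨m, hm⟩ := ((h.mem_oddCent hs.hz).1 ha).2
    have h1 : a = a ^ (m + 1) * a ^ (m + 1) := by
      rw [← pow_add, show m + 1 + (m + 1) = orderOf a + 1 by omega, pow_succ, pow_orderOf_eq_one,
        one_mul]
    rw [h1]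
    exact mul_self_mem_of_index_two hMi _
  haveI := hMn
  have hzM := hBM hs.hzB
  haveI : Nontrivial M := ⟨⟨⟨z, hzM⟩, 1, fun e => ne_one_of_involution hs.hz
    (congrArg Subtype.val e)⟩⟩
  have hBcard : Nat.card B * 2 = Nat.card (S : Subgroup G) := by
    have := (B.subgroupOf (S : Subgroup G)).card_mul_index
    rwa [show (B.subgroupOf (S : Subgroup G)).index = 2 from hs.idx,
      Nat.card_congr (subgroupOfEquivOfLe hs.le).toEquiv] at this
  have hnd : ¬ 2 ∣ (B.subgroupOf M).index := by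
    have e1 := (B.subgroupOf M).card_mul_index
    rw [Nat.card_congr (subgroupOfEquivOfLe hBM).toEquiv] at e1
    have e2 := M.card_mul_index
    rw [hMi] at e2
    have e3 := (S : Subgroup G).card_mul_index
    have e4 : (B.subgroupOf M).index = (S : Subgroup G).index := by
      refine Nat.eq_of_mul_eq_mul_left (show 0 < Nat.card B * 2 from
        Nat.mul_pos Nat.card_pos two_pos) ?_
      rw [mul_right_comm, e1, e2, ← e3, hBcard]
    rw [e4]
    exact S.not_dvd_index
  let T : Sylow 2 M :=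
    ((S.isPGroup'.to_le hs.le).of_equiv (subgroupOfEquivOfLe hBM).symm).toSylow hnd
  have habM := abelian_cents T fun t htT ht => by
    have htB : (t : G) ∈ B := htT
    have hto : orderOf (t : G) = 2 := by rw [Subgroup.orderOf_coe, ht]
    refine ⟨⟨fun a b => Subtype.ext (Subtype.ext ?_)⟩⟩
    have hmem : ∀ a ∈ centralizer ({t} : Set M), ((a : M) : G) ∈ centralizer ({z} : Set G) :=
      fun a ha => by
        rw [← hs.cent _ htB hto, mem_cent]
        exact congrArg Subtype.val (mem_centralizer_singleton_iff.1 ha)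
    obtain ⟨a₁, ha₁, s₁, hs₁, e₁⟩ := h.exists_mul S hs.hz hs.hS (hmem _ a.2)
    obtain ⟨a₂, ha₂, s₂, hs₂, e₂⟩ := h.exists_mul S hs.hz hs.hS (hmem _ b.2)
    have hsB : ∀ {a : G} {s : G}, a ∈ oddCent z → s ∈ (S : Subgroup G) → a * s ∈ M → s ∈ B :=
      fun ha hs' hm => (hMS _ hs').1 ((Subgroup.mul_mem_cancel_left M (hAM ha)).1 hm)
    have hb₁ := hsB ha₁ hs₁ (by rw [e₁]; exact a.1.2)
    have hb₂ := hsB ha₂ hs₂ (by rw [e₂]; exact b.1.2)
    show ((a : M) : G) * ((b : M) : G) = ((b : M) : G) * ((a : M) : G)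
    rw [← e₁, ← e₂]
    have c1 : Commute (a₁ * s₁) a₂ :=
      (h.oddCent_comm hs.hz ha₁ ha₂).mul_left (hs.commA _ hb₁ _ ha₂)
    have c2 : Commute (a₁ * s₁) s₂ :=
      (hs.commA _ hb₂ _ ha₁).symm.mul_left (hs.comm _ hb₁ _ hb₂)
    exact (c1.mul_right c2).eq
  obtain ⟨F, iF, iT, hF, -, ⟨e⟩⟩ := (h.of_normal M).sl_of_abelian habM
  have hxM : x ∈ M := hx.elim (fun hh => hBM hh) fun hh => hAM hh
  have hxz : Commute x z := hx.elim (fun hh => hs.comm x hh z hs.hzB)
    fun hh => mem_cent.1 (oddCent_le z hh)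
  refine false_of_sl_iso e (z := ⟨z, hzM⟩) (x := ⟨x, hxM⟩) ?_ (Subtype.ext hxz.eq)
    fun e' => hx2 (congrArg Subtype.val e')
  rw [orderOf_mk, hs.hz]

end Split

end CfsgLib.EvenCyclicNorm
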