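import Cfsg.Agent.Lib.EvenCyclicNorm.Basic

/-!
# The 2-subgroups

Every square involution of a 2-subgroup is central in it, so every cyclic subgroup of order at
least four of a 2-subgroup is normal in it.
-/

set_option autoImplicit false
set_option linter.style.haveILetI false

namespace CfsgLib.EvenCyclicNorm

open Subgroup CfsgLib.Involutions

universe u

variable {G : Type u} [Group G]

theorem mem_zpowers_four {x c : G} (hx : orderOf x = 4) (hc : c ∈ zpowers x) :
    c = 1 ∨ c = x ∨ c = x * x ∨ c = x⁻¹ := by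
  obtain ⟨n, rfl⟩ := hc
  have h4 : x ^ (4 : ℕ) = 1 := hx ▸ pow_orderOf_eq_one x
  have key : ∀ r : ℕ, n % 4 = (r : ℤ) → x ^ n = x ^ r := fun r hr => by
    rw [← zpow_mod_orderOf, hx, Nat.cast_ofNat, hr, zpow_natCast]
  simp only []
  rcases (show n % 4 = 0 ∨ n % 4 = 1 ∨ n % 4 = 2 ∨ n % 4 = 3 by omega) with h | h | h | h
  · exact Or.inl ((key 0 h).trans (pow_zero x))
  · exact Or.inr (Or.inl ((key 1 h).trans (pow_one x)))
  · exact Or.inr (Or.inr (Or.inl ((key 2 h).trans (sq x))))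
  · refine Or.inr (Or.inr (Or.inr ((key 3 h).trans ?_)))
    exact eq_inv_of_mul_eq_one_left (by rw [← pow_succ, h4])

theorem orderOf_eq_four {x z : G} (hz : orderOf z = 2) (hx : x * x = z) : orderOf x = 4 := by
  haveI : Fact (Nat.Prime 2) := ⟨Nat.prime_two⟩
  refine orderOf_eq_prime_pow (p := 2) (n := 1) ?_ ?_
  · rw [pow_one, sq, hx]; exact ne_one_of_involution hz
  · rw [show (2 : ℕ) ^ (1 + 1) = 2 * 2 from rfl, pow_mul, sq x, hx, sq, mul_self_eq_one hz]

theorem orderOf_sq_four {w : G} (hw : orderOf w = 4) : orderOf (w * w) = 2 := by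
  rw [← sq, orderOf_pow' w two_ne_zero, hw]
  rfl

theorem sq_mem_zpowers (w : G) : w * w ∈ zpowers w := mul_mem (mem_zpowers w) (mem_zpowers w)

theorem eq_or_inv_of_sq {x c z : G} (hz : orderOf z = 2) (hx : x * x = z) (hc : c ∈ zpowers x)
    (hcc : c * c = z) : c = x ∨ c = x⁻¹ := by
  rcases mem_zpowers_four (orderOf_eq_four hz hx) hc with rfl | h | rfl | h
  · exact absurd (by rw [← hcc, mul_one]) (ne_one_of_involution hz)
  · exact Or.inl h
  · rw [hx, mul_self_eq_one hz] at hcc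
    exact absurd hcc.symm (ne_one_of_involution hz)
  · exact Or.inr h

theorem exists_pow_orderOf {P : Subgroup G} (hP : IsPGroup 2 P) {x : G} (hx : x ∈ P) :
    ∃ k : ℕ, orderOf x = 2 ^ k := by
  obtain ⟨k, hk⟩ := IsPGroup.iff_orderOf.1 hP ⟨x, hx⟩
  exact ⟨k, by rwa [orderOf_mk] at hk⟩

theorem sq_eq_one_or_four_dvd {P : Subgroup G} (hP : IsPGroup 2 P) {x : G} (hx : x ∈ P) :
    x * x = 1 ∨ 4 ∣ orderOf x := by
  obtain ⟨k, hk⟩ := exists_pow_orderOf hP hx
  rcases Nat.lt_or_ge k 2 with h | h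
  · left
    rw [← sq, ← orderOf_dvd_iff_pow_eq_one, hk]
    exact (pow_dvd_pow 2 (Nat.le_of_lt_succ h)).trans (dvd_of_eq (pow_one 2))
  · right
    rw [hk]
    exact (dvd_of_eq (by norm_num)).trans (pow_dvd_pow 2 h)

theorem exists_root [Finite G] {x : G} (h4 : 4 ∣ orderOf x) :
    ∃ w ∈ zpowers x, orderOf w = 4 :=
  ⟨x ^ (orderOf x / 4), npow_mem_zpowers _ _,
    orderOf_pow_orderOf_div (orderOf_pos x).ne' h4⟩

theorem exists_involution_zpowers [Finite G] {x : G} (h2 : 2 ∣ orderOf x) :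
    ∃ z ∈ zpowers x, orderOf z = 2 :=
  ⟨x ^ (orderOf x / 2), npow_mem_zpowers _ _,
    orderOf_pow_orderOf_div (orderOf_pos x).ne' h2⟩

theorem exists_conj_sylow [Finite G] (S : Sylow 2 G) {x : G} {k : ℕ} (hk : orderOf x = 2 ^ k) :
    ∃ g : G, g * x * g⁻¹ ∈ (S : Subgroup G) := by
  haveI : Fact (Nat.Prime 2) := ⟨Nat.prime_two⟩
  obtain ⟨g, hg⟩ := Involutions.exists_conj_le_sylow
    (IsPGroup.of_card (p := 2) (n := k) (by rw [Nat.card_zpowers, hk]) : IsPGroup 2 (zpowers x)) S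
  exact ⟨g, hg x (mem_zpowers x)⟩

theorem Hyp.square_central (h : Hyp G) [Finite G] {P : Subgroup G} (hP : IsPGroup 2 P) {w : G}
    (hwP : w ∈ P) (hw : orderOf w = 4) : P ≤ centralizer ({w * w} : Set G) := by
  haveI : Fact (Nat.Prime 2) := ⟨Nat.prime_two⟩
  classical
  obtain ⟨z, hzdef⟩ : ∃ z, z = w * w := ⟨_, rfl⟩
  rw [← hzdef]
  have hz : orderOf z = 2 := hzdef ▸ orderOf_sq_four hw
  set C := centralizer ({z} : Set G) with hC
  by_contra hle
  haveI : Group.IsNilpotent P := hP.isNilpotent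
  have hlt : C.subgroupOf P < ⊤ :=
    lt_top_iff_ne_top.2 fun e => hle (subgroupOf_eq_top.1 e)
  obtain ⟨y₀, hy₀N, hy₀⟩ := SetLike.exists_of_lt
    (Group.normalizerCondition_of_isNilpotent _ hlt)
  -- adjust so that the square lies in the centraliser
  obtain ⟨yP, hyN, hy, hyy⟩ : ∃ y : P, y ∈ normalizer (C.subgroupOf P : Set P) ∧
      y ∉ C.subgroupOf P ∧ y * y ∈ C.subgroupOf P := by
    obtain ⟨k, hk⟩ := IsPGroup.iff_orderOf.1 hP y₀
    have hex : ∃ j : ℕ, y₀ ^ 2 ^ j ∈ C.subgroupOf P :=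
      ⟨k, by rw [← hk, pow_orderOf_eq_one]; exact one_mem _⟩
    obtain ⟨j, hj⟩ : ∃ j, Nat.find hex = j + 1 :=
      Nat.exists_eq_succ_of_ne_zero fun e => by
        have h1 := Nat.find_spec hex
        rw [e, pow_zero, pow_one] at h1
        exact hy₀ h1
    refine ⟨y₀ ^ 2 ^ j, pow_mem hy₀N _, Nat.find_min hex (by omega), ?_⟩
    have h1 := Nat.find_spec hex
    rw [hj, pow_succ, pow_mul, sq] at h1
    exact h1
  obtain ⟨y, hyP⟩ := yP
  simp only [mem_subgroupOf, coe_mul] at hy hyy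
  have hconj : ∀ x ∈ P, (x ∈ C ↔ y * x * y⁻¹ ∈ C) := by
    intro x hx
    simpa [mem_subgroupOf] using mem_normalizer_iff.1 hyN ⟨x, hx⟩
  obtain ⟨w', hw'⟩ : ∃ w', w' = y * w * y⁻¹ := ⟨_, rfl⟩
  obtain ⟨z', hz'⟩ : ∃ z', z' = y * z * y⁻¹ := ⟨_, rfl⟩
  have hz'2 : orderOf z' = 2 := by rw [hz', orderOf_conj_eq, hz]
  have hw'sq : w' * w' = z' := by rw [hw', hz', hzdef]; group
  have hzw : z ∈ zpowers w := hzdef ▸ sq_mem_zpowers w
  have hzw' : z' ∈ zpowers w' := hw'sq ▸ sq_mem_zpowers w'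
  have hwC : w ∈ C := Hyp.commute_of_root hzw
  have hne : z' ≠ z := fun e => hy (mem_cent.2 (mul_inv_eq_iff_eq_mul.1 (hz'.symm.trans e)))
  have hw'C : w' ∈ C := hw' ▸ (hconj w hwP).1 hwC
  have hwC' : w ∈ centralizer ({z'} : Set G) := by
    rw [hz', mem_cent_conj]
    refine (hconj _ (mul_mem (mul_mem (inv_mem hyP) hwP) hyP)).2 ?_
    rwa [show y * (y⁻¹ * w * y) * y⁻¹ = w by group]
  have hcomm : Commute w w' := by
    obtain ⟨c, hc⟩ : ∃ c, c = w * w' * w⁻¹ * w'⁻¹ := ⟨_, rfl⟩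
    have hc1 : c ∈ zpowers w := by
      rw [hc, show w * w' * w⁻¹ * w'⁻¹ = w * (w' * w⁻¹ * w'⁻¹) by group]
      refine mul_mem (mem_zpowers w) ?_
      have := inv_mem (h.conj_mem_zpowers hz hzw hw'C)
      rwa [show (w' * w * w'⁻¹)⁻¹ = w' * w⁻¹ * w'⁻¹ by group] at this
    have hc2 : c ∈ zpowers w' := by
      rw [hc]
      exact mul_mem (h.conj_mem_zpowers hz'2 hzw' hwC') (inv_mem (mem_zpowers w'))
    have h4 : orderOf w = 4 := hw
    have hsq1 : c * c = 1 ∨ c * c = z := by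
      rcases mem_zpowers_four hw hc1 with rfl | rfl | rfl | rfl
      · left; rw [mul_one]
      · right; exact hzdef.symm
      · left; rw [← hzdef, mul_self_eq_one hz]
      · right; rw [← mul_inv_rev, ← hzdef, inv_eq_self_of_involution hz]
    have hsq2 : c * c = 1 ∨ c * c = z' := by
      rcases mem_zpowers_four (orderOf_eq_four hz'2 hw'sq) hc2 with e | e | e | e <;> rw [e]
      · left; rw [mul_one]
      · right; exact hw'sq
      · left; rw [hw'sq, mul_self_eq_one hz'2]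
      · right; rw [← mul_inv_rev, hw'sq, inv_eq_self_of_involution hz'2]
    have hcc : c * c = 1 := by
      rcases hsq1 with e | e
      · exact e
      · exact hsq2.resolve_right fun e' => hne (e'.symm.trans e)
    have hA : c = 1 ∨ c = z := by
      rcases mem_zpowers_four hw hc1 with e | e | e | e
      · exact Or.inl e
      · rw [e, ← hzdef] at hcc; exact absurd hcc (ne_one_of_involution hz)
      · exact Or.inr (e.trans hzdef.symm)
      · rw [e, ← mul_inv_rev, ← hzdef, inv_eq_one] at hcc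
        exact absurd hcc (ne_one_of_involution hz)
    have hB : c = 1 ∨ c = z' := by
      rcases mem_zpowers_four (orderOf_eq_four hz'2 hw'sq) hc2 with e | e | e | e
      · exact Or.inl e
      · rw [e, hw'sq] at hcc; exact absurd hcc (ne_one_of_involution hz'2)
      · exact Or.inr (e.trans hw'sq)
      · rw [e, ← mul_inv_rev, hw'sq, inv_eq_one] at hcc
        exact absurd hcc (ne_one_of_involution hz'2)
    have hc0 : c = 1 := by
      rcases hA with e | e
      · exact e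
      · exact hB.resolve_right fun e' => hne (e'.symm.trans e)
    exact mul_inv_eq_iff_eq_mul.1 (mul_inv_eq_one.1 (hc ▸ hc0))
  have hwne : w * w ≠ 1 := hzdef ▸ ne_one_of_involution hz
  have hw'ne : w' * w' ≠ 1 := hw'sq ▸ ne_one_of_involution hz'2
  -- the square of `y` centralises `w`
  have hyyw : y * y * w * (y * y)⁻¹ = w := by
    obtain ⟨e, he⟩ : ∃ e, e = y * y * w * (y * y)⁻¹ := ⟨_, rfl⟩
    rw [← he]
    have hezp : e ∈ zpowers w := he ▸ h.conj_mem_zpowers hz hzw hyy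
    have hee : e * e = z := by
      rw [he, show y * y * w * (y * y)⁻¹ * (y * y * w * (y * y)⁻¹) =
        y * y * (w * w) * (y * y)⁻¹ by group, ← hzdef, (mem_cent.1 hyy).eq, mul_inv_cancel_right]
    rcases eq_or_inv_of_sq hz hzdef.symm hezp hee with h1 | h1
    · exact h1
    exfalso
    have hp : (w * w') * (w * w') = z * z' := by
      rw [hcomm.symm.mul_mul_mul_comm, ← hzdef, hw'sq]
    have hzz : orderOf (z * z') = 2 := by
      have hzz' : Commute z z' := by
        rw [hzdef, ← hw'sq]; exact (hcomm.mul_right hcomm).mul_left (hcomm.mul_right hcomm)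
      refine orderOf_eq_two_iff_mul.2 ⟨fun e1 => hne ?_, ?_⟩
      · exact (inv_eq_of_mul_eq_one_right e1).symm.trans (inv_eq_self_of_involution hz)
      · rw [hzz'.symm.mul_mul_mul_comm, mul_self_eq_one hz, mul_self_eq_one hz'2, one_mul]
    have hyfix : y ∈ centralizer ({z * z'} : Set G) := by
      refine mem_cent.2 (mul_inv_eq_iff_eq_mul.1 ?_)
      have hzz' : Commute z' z := by
        rw [hzdef, ← hw'sq]
        exact (hcomm.symm.mul_right hcomm.symm).mul_left (hcomm.symm.mul_right hcomm.symm)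
      have e2 : y * z' * y⁻¹ = z := by
        rw [hz', show y * (y * z * y⁻¹) * y⁻¹ = y * y * z * (y * y)⁻¹ by group,
          (mem_cent.1 hyy).eq, mul_inv_cancel_right]
      calc y * (z * z') * y⁻¹ = (y * z * y⁻¹) * (y * z' * y⁻¹) := by group
        _ = z' * z := by rw [← hz', e2]
        _ = z * z' := hzz'.eq
    have hmem := h.conj_mem_zpowers hzz (hp ▸ sq_mem_zpowers (w * w')) hyfix
    have hval : y * (w * w') * y⁻¹ = w' * w⁻¹ := by
      calc y * (w * w') * y⁻¹ = (y * w * y⁻¹) * (y * y * w * (y * y)⁻¹) := by rw [hw']; group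
        _ = w' * w⁻¹ := by rw [← he, h1, ← hw']
    rw [hval] at hmem
    have hsq : (w' * w⁻¹) * (w' * w⁻¹) = z * z' := by
      rw [(hcomm.symm.inv_right).symm.mul_mul_mul_comm, hw'sq, ← mul_inv_rev, ← hzdef,
        inv_eq_self_of_involution hz]
      have hzz' : Commute z' z := by
        rw [hzdef, ← hw'sq]
        exact (hcomm.symm.mul_right hcomm.symm).mul_left (hcomm.symm.mul_right hcomm.symm)
      exact hzz'.eq
    rcases eq_or_inv_of_sq hzz hp hmem hsq with e2 | e2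
    · refine hwne ?_
      rw [hcomm.eq] at e2
      exact inv_eq_iff_mul_eq_one.1 (mul_left_cancel e2)
    · refine hw'ne ?_
      rw [mul_inv_rev] at e2
      exact (eq_inv_iff_mul_eq_one.1 (mul_right_cancel e2))
  -- an element outside the centraliser with non-trivial square interchanging `w` and `w'`
  obtain ⟨m, hmP, hm1, hmw, hmw', hmm⟩ : ∃ m ∈ P, m * m ≠ 1 ∧ m * w * m⁻¹ = w' ∧
      m * w' * m⁻¹ = w ∧ Commute w (m * m) := by
    have hyw' : y * w' * y⁻¹ = w := by
      rw [hw', show y * (y * w * y⁻¹) * y⁻¹ = y * y * w * (y * y)⁻¹ by group, hyyw]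
    by_cases hy2 : y * y = 1
    · have hmm : w * y * (w * y) = w * w' := by
        calc w * y * (w * y) = w * (y * w * y⁻¹) * (y * y) := by group
          _ = w * w' := by rw [← hw', hy2, mul_one]
      refine ⟨w * y, mul_mem hwP hyP, ?_, ?_, ?_, ?_⟩
      · rw [hmm]
        intro e
        rw [← inv_eq_of_mul_eq_one_right e, ← mul_inv_rev, ← hzdef,
          inv_eq_self_of_involution hz] at hw'sq
        exact hne hw'sq.symm
      · calc w * y * w * (w * y)⁻¹ = w * (y * w * y⁻¹) * w⁻¹ := by group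
          _ = w' := by rw [← hw', hcomm.eq, mul_inv_cancel_right]
      · calc w * y * w' * (w * y)⁻¹ = w * (y * w' * y⁻¹) * w⁻¹ := by group
          _ = w := by rw [hyw', mul_inv_cancel_right]
      · rw [hmm]; exact (Commute.refl w).mul_right hcomm
    · exact ⟨y, hyP, hy2, hw'.symm, hyw', (mul_inv_eq_iff_eq_mul.1 hyyw).symm⟩
  -- `w` normalises `⟨m⟩`
  obtain ⟨k, hk⟩ := exists_pow_orderOf hP (mul_mem hmP hmP)
  obtain ⟨t, htm, ht⟩ := exists_involution_zpowers (x := m * m) (by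
    rw [hk]
    refine dvd_pow_self 2 fun e => hm1 ?_
    rw [e, pow_zero, orderOf_eq_one_iff] at hk
    exact hk)
  have htm' : t ∈ zpowers m := zpowers_le.2 (sq_mem_zpowers m) htm
  have hwt : w ∈ centralizer ({t} : Set G) := by
    obtain ⟨j, rfl⟩ := htm
    exact mem_cent.2 (hmm.zpow_right j)
  obtain ⟨j, hj⟩ := h.conj_mem_zpowers ht htm' hwt
  have hd : Commute m (w * w'⁻¹) := by
    have e1 : w * w'⁻¹ = w * m * w⁻¹ * m⁻¹ := by rw [← hmw]; group
    rw [e1, ← hj]
    exact ((Commute.refl m).zpow_right j).mul_right (Commute.refl m).inv_right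
  have e3 : w' * w⁻¹ = w * w'⁻¹ := by
    have := mul_inv_eq_iff_eq_mul.2 hd.eq
    rw [show m * (w * w'⁻¹) * m⁻¹ = (m * w * m⁻¹) * (m * w' * m⁻¹)⁻¹ by group, hmw, hmw'] at this
    exact this
  refine hne ?_
  rw [← hw'sq, hzdef]
  calc w' * w' = w' * w⁻¹ * (w * w') := by group
    _ = w * w'⁻¹ * (w * w') := by rw [e3]
    _ = w * w'⁻¹ * (w' * w) := by rw [hcomm.eq]
    _ = w * w := by group

theorem Hyp.conj_mem_two (h : Hyp G) [Finite G] {P : Subgroup G} (hP : IsPGroup 2 P) {x p : G}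
    (hx : x ∈ P) (h4 : 4 ∣ orderOf x) (hp : p ∈ P) : p * x * p⁻¹ ∈ zpowers x := by
  obtain ⟨w, hwx, hw⟩ := exists_root h4
  exact h.conj_mem_zpowers (orderOf_sq_four hw) (mul_mem hwx hwx)
    (h.square_central hP (zpowers_le.2 hx hwx) hw hp)

theorem Hyp.conj_four (h : Hyp G) [Finite G] {P : Subgroup G} (hP : IsPGroup 2 P) {w p : G}
    (hwP : w ∈ P) (hw : orderOf w = 4) (hp : p ∈ P) :
    p * w * p⁻¹ = w ∨ p * w * p⁻¹ = w⁻¹ := by
  refine eq_or_inv_of_sq (orderOf_sq_four hw) rfl (h.conj_mem_two hP hwP (hw ▸ dvd_rfl) hp) ?_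
  rw [show p * w * p⁻¹ * (p * w * p⁻¹) = p * (w * w) * p⁻¹ by group,
    (mem_cent.1 (h.square_central hP hwP hw hp)).eq, mul_inv_cancel_right]

/-- A 2-element having `z` among its powers centralises `oddCent z`. -/
theorem Hyp.root_commute (h : Hyp G) [Finite G] {z x a : G} {k : ℕ} (hz : orderOf z = 2)
    (hzx : z ∈ zpowers x) (hk : orderOf x = 2 ^ k) (ha : a ∈ oddCent z) : Commute x a := by
  obtain ⟨c, hc⟩ : ∃ c, c = a * x * a⁻¹ * x⁻¹ := ⟨_, rfl⟩
  have h1 : c ∈ zpowers x := by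
    rw [hc]
    exact mul_mem (h.conj_mem_zpowers hz hzx (oddCent_le z ha)) (inv_mem (mem_zpowers x))
  have h2 : c ∈ oddCent z := by
    rw [hc, show a * x * a⁻¹ * x⁻¹ = a * (x * a⁻¹ * x⁻¹) by group]
    exact mul_mem ha (h.conj_mem_oddCent hz (inv_mem ha) (Hyp.commute_of_root hzx))
  have h3 := eq_one_of_odd_of_two_pow ((h.mem_oddCent hz).1 h2).2
    (k := k) ((orderOf_dvd_natCard _ h1).trans (by rw [Nat.card_zpowers, hk]))
  exact (mul_inv_eq_iff_eq_mul.1 (mul_inv_eq_one.1 (hc ▸ h3))).symm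

theorem Hyp.exists_mul (h : Hyp G) [Finite G] (S : Sylow 2 G) {z c : G} (hz : orderOf z = 2)
    (hS : (S : Subgroup G) ≤ centralizer ({z} : Set G))
    (hc : c ∈ centralizer ({z} : Set G)) :
    ∃ a ∈ oddCent z, ∃ s ∈ (S : Subgroup G), a * s = c := by
  haveI : Fact (Nat.Prime 2) := ⟨Nat.prime_two⟩
  set C := centralizer ({z} : Set G)
  have hnorm : (S : Subgroup G) ≤ normalizer (oddCent z : Set G) := by
    intro s hs
    refine mem_normalizer_iff.2 fun x => ⟨fun hx => h.conj_mem_oddCent hz hx (hS hs), fun hx => ?_⟩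
    have := h.conj_mem_oddCent hz hx (inv_mem (hS hs))
    rwa [show s⁻¹ * (s * x * s⁻¹) * s⁻¹⁻¹ = x by group] at this
  set L := oddCent z ⊔ (S : Subgroup G) with hL
  have hLC : L ≤ C := sup_le (oddCent_le z) hS
  have hodd : Odd (L.relIndex C) := by
    have h1 : L.relIndex C ∣ (S : Subgroup G).index :=
      (Dvd.intro _ (relIndex_mul_index hLC)).trans (index_dvd_of_le le_sup_right)
    refine Odd.of_dvd_nat ?_ h1
    rw [← Nat.not_even_iff_odd, even_iff_two_dvd]
    exact S.not_dvd_index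
  haveI hAn : ((oddCent z).subgroupOf C).Normal := ⟨fun x hx c => by
    rw [mem_subgroupOf] at hx ⊢
    exact h.conj_mem_oddCent hz hx c.2⟩
  have hq : IsPGroup 2 (C ⧸ (oddCent z).subgroupOf C) := by
    intro q
    induction q using QuotientGroup.induction_on with
    | H x =>
      obtain ⟨k, m, hm, hkm⟩ :=
        Nat.exists_eq_pow_mul_and_not_dvd (orderOf_pos x).ne' 2 (by norm_num)
      refine ⟨k, ?_⟩
      rw [← QuotientGroup.mk_pow, QuotientGroup.eq_one_iff, mem_subgroupOf,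
        h.mem_oddCent hz]
      refine ⟨(x ^ 2 ^ k).2, ?_⟩
      rw [Subgroup.orderOf_coe, orderOf_pow_of_dvd (by positivity) (hkm ▸ dvd_mul_right _ _), hkm,
        Nat.mul_div_cancel_left _ (by positivity)]
      exact Nat.odd_iff.2 (Nat.two_dvd_ne_zero.1 hm)
  obtain ⟨n, hn⟩ := IsPGroup.iff_card.1 hq
  have h2 : L.relIndex C ∣ 2 ^ n := by
    rw [← hn]
    exact relIndex_dvd_of_le_left C le_sup_left
  obtain ⟨j, -, hj⟩ := (Nat.dvd_prime_pow Nat.prime_two).1 h2
  have hLC' : C ≤ L := by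
    refine relIndex_eq_one.1 ?_
    rcases Nat.eq_zero_or_pos j with rfl | hj0
    · rw [hj, pow_zero]
    · rw [hj] at hodd
      exact absurd hodd (Nat.not_odd_iff_even.2 ((Nat.even_pow' hj0.ne').2 even_two))
  have hc' : c ∈ L := hLC' hc
  rw [hL, ← SetLike.mem_coe, coe_mul_of_right_le_normalizer_left _ _ hnorm, Set.mem_mul] at hc'
  exact hc'

theorem Hyp.cent_comm (h : Hyp G) [Finite G] (S : Sylow 2 G) {z : G} (hz : orderOf z = 2)
    (hS : (S : Subgroup G) ≤ centralizer ({z} : Set G))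
    (hcomm : ∀ s ∈ (S : Subgroup G), ∀ t ∈ (S : Subgroup G), Commute s t)
    (hcA : ∀ s ∈ (S : Subgroup G), ∀ a ∈ oddCent z, Commute s a) :
    IsMulCommutative (centralizer ({z} : Set G)) := by
  refine ⟨⟨fun x y => Subtype.ext ?_⟩⟩
  obtain ⟨a, ha, s, hs, hx⟩ := h.exists_mul S hz hS x.2
  obtain ⟨b, hb, t, ht, hy⟩ := h.exists_mul S hz hS y.2
  show (x : G) * y = y * x
  rw [← hx, ← hy]
  have h1 : Commute (a * s) b := (h.oddCent_comm hz ha hb).mul_left (hcA s hs b hb)
  have h2 : Commute (a * s) t := (hcA t ht a ha).symm.mul_left (hcomm s hs t ht)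
  exact (h1.mul_right h2).eq

/-- If every involution in `S` has an abelian centraliser, so has every involution. -/
theorem abelian_cents [Finite G] (S : Sylow 2 G)
    (hS : ∀ t ∈ (S : Subgroup G), orderOf t = 2 →
      IsMulCommutative (centralizer ({t} : Set G))) :
    ∀ t : G, orderOf t = 2 → IsMulCommutative (centralizer ({t} : Set G)) := by
  intro t ht
  obtain ⟨g, hg⟩ := exists_conj_sylow S (x := t) (k := 1) (by rw [ht, pow_one])
  have hab := hS _ hg (by rw [orderOf_conj_eq, ht])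
  refine ⟨⟨fun x y => Subtype.ext ?_⟩⟩
  have hx : ∀ x ∈ centralizer ({t} : Set G),
      g * x * g⁻¹ ∈ centralizer ({g * t * g⁻¹} : Set G) := fun x hx => by
    rw [mem_cent_conj]
    rwa [show g⁻¹ * (g * x * g⁻¹) * g = x by group]
  have := congrArg Subtype.val
    (hab.is_comm.comm ⟨_, hx x x.2⟩ ⟨_, hx y y.2⟩)
  simp only [coe_mul] at this
  show (x : G) * y = y * x
  calc (x : G) * y = g⁻¹ * (g * x * g⁻¹ * (g * y * g⁻¹)) * g := by group
    _ = g⁻¹ * (g * y * g⁻¹ * (g * x * g⁻¹)) * g := by rw [this]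
    _ = y * x := by group

end CfsgLib.EvenCyclicNorm
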